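import Cfsg.Agent.Lib.Twisted.OrderData.E6
import Cfsg.Agent.Lib.Twisted.E6H

/-! # The order of ²E₆ -/

set_option autoImplicit false
set_option linter.unusedSectionVars false
set_option linter.unusedVariables false

namespace Cfsg.Agent.Lib.Twisted.E6O

open scoped MatrixGroups Matrix
open Cfsg Lie ChevalleyDatum
open Cfsg.Agent.Lib.Chev
open Tables Tables2 Tables3 Raise Basic AxBasic Torus Products Products2 Mono1 Mono2 Mono3 Bn Order3
open Cfsg.Agent.Lib.Twisted.Fact Cfsg.Agent.Lib.Twisted.Bruhat Cfsg.Agent.Lib.Twisted.Tw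
open Cfsg.Agent.Lib.Twisted.Struct Cfsg.Agent.Lib.Twisted.Check Cfsg.Agent.Lib.Twisted.E6 Cfsg.Agent.Lib.Twisted.Ortho
open Cfsg.Agent.Lib.Twisted.Order Cfsg.Agent.Lib.Twisted.OrderData.E6

/-- The classes as a function of naturals. -/
def gn (a : ℕ) : Fin 4 := Fin.ofNat 4 a

theorem hgn : ∀ j : Fin 4, ∃ a, a < 4 ∧ gn a = j := by decide

theorem hw' : ∀ a : Fin 4, ∀ r : Fin 72, wWord chevE6 (Ce.wl a) r = byteAt (rowOf 72 Wt a) r := by decide +kernel

theorem hpsi' : ∀ a : Fin 4, ∀ r : Fin 72, psiB chevE6 (Ce.cls a) r = true → (r : ℕ) ∈ psiL a := by decide +kernel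

theorem hposN : ∀ r, r < chevE6.nroots → (chevE6.IsPosRoot r ↔ chevE6.nroots / 2 ≤ r) := by decide +kernel

theorem hist_id : polyMul [1, 1] (histOf W.E) =
    polyProd [geomP 6, geomP 8, geomP 12, [1, 0, 0, 0, 0, 1], [1, 0, 0, 0, 0, 0, 0, 0, 0, 1]] := by decide +kernel

variable {K : Type*} [Field K] {q : ℕ}

section Fix

variable (φ : K ≃+* K) (hφ : ∀ t, φ t = t ^ q) (hφ2 : ∀ t, φ (φ t) = t) (ax : Ax chevE6 K)

include φ hφ hφ2 ax in
theorem card_main [Finite K] (hK : Nat.card K = q ^ 2) (hF : Nat.card {t : K // t ^ q = t} = q) :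
    Nat.card (twistedE6 K q) = Nat.card ↥(chevE6.posUnipotent K ⊓ twistedE6 K q) *
      Nat.card ↥(chevE6.diagonalSubgroup K ⊓ twistedE6 K q) * (W.E.map (q ^ ·)).sum := by
  refine card_of_wcert (c := 4) (Wt := Wt) (q := q) (psiL := psiL) (deg := deg) (W := W) (TE φ hφ hφ2 ax) hE2 gn hgn ?_ ?_ ?_ hposN check
  · intro a ha r
    have := hw' ⟨a, ha⟩ r
    have hl : ∀ i ∈ Ce.wl (gn a), i < chevE6.rank := wl_lt _
    show ((wPw hE (Ce.wl (gn a)) r : Fin chevE6.nroots) : ℕ) = _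
    rw [wPw_val hE hl]
    have e : gn a = ⟨a, ha⟩ := Fin.ext (Nat.mod_eq_of_lt ha)
    rw [e]
    exact this
  · intro a ha r hr
    have e : gn a = ⟨a, ha⟩ := Fin.ext (Nat.mod_eq_of_lt ha)
    have hr' : Psi chevE6 (· ∈ Ce.cls ⟨a, ha⟩) r := by
      rw [← e]
      exact hr
    exact hpsi' ⟨a, ha⟩ r (psiB_iff.mpr hr')
  · intro a ha
    have c0 : Nat.card (TD.fixCl (twE φ ax) (Psi chevE6 (· ∈ Ce.cls 0))) = q := by
      rw [← hF]
      exact card_single φ hφ hφ2 ax (a := 46) (by decide) (by decide) (by decide +kernel) (by decide +kernel) psi0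
    have c1 : Nat.card (TD.fixCl (twE φ ax) (Psi chevE6 (· ∈ Ce.cls 1))) = q := by
      rw [← hF]
      exact card_single φ hφ hφ2 ax (a := 39) (by decide) (by decide) (by decide +kernel) (by decide +kernel) psi1
    have c2 : Nat.card (TD.fixCl (twE φ ax) (Psi chevE6 (· ∈ Ce.cls 2))) = q ^ 2 := by
      rw [← hK]
      exact card_pair φ hφ hφ2 ax (a := 36) (b := 56) (by decide) (by decide +kernel) (by decide)
        ⟨by decide, by decide +kernel, by decide +kernel⟩ (by decide +kernel) (by decide +kernel) (by decide +kernel)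
        (by decide +kernel) psi2
    have c3 : Nat.card (TD.fixCl (twE φ ax) (Psi chevE6 (· ∈ Ce.cls 3))) = q ^ 2 := by
      rw [← hK]
      exact card_pair φ hφ hφ2 ax (a := 37) (b := 42) (by decide) (by decide +kernel) (by decide)
        ⟨by decide, by decide +kernel, by decide +kernel⟩ (by decide +kernel) (by decide +kernel) (by decide +kernel)
        (by decide +kernel) psi3
    interval_cases a
    · exact c0.trans (pow_one q).symm
    · exact c1.trans (pow_one q).symm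
    · exact c2
    · exact c3

end Fix

variable {K : Type*} [Field K] [Fintype K] {q : ℕ}

/-- The order of ²E₆. -/
theorem card_E6 (hq : IsPrimePow q) (hK : Fintype.card K = q ^ 2) :
    Nat.gcd 3 (q + 1) * Nat.card ↥(twistedE6 K q) =
      q ^ 36 * (q ^ 2 - 1) * (q ^ 5 + 1) * (q ^ 6 - 1) * (q ^ 8 - 1) * (q ^ 9 + 1) * (q ^ 12 - 1) := by
  obtain ⟨φ, hφ, hφ2⟩ := exists_φ hq hK
  have ax : Ax chevE6 K := Cfsg.Agent.Lib.Lie.AxOf.ax_of_mem hmemE6
  have hq1 : 1 ≤ q := by have := hq.two_le; omega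
  have hM := card_main φ hφ hφ2 ax (by rw [Nat.card_eq_fintype_card, hK]) (card_fix hq.two_le (by norm_num) hK)
  rw [hM, card_U_main hq hK]
  have hH := E6H.card_H1 hq hK
  have hS : (q + 1) * (W.E.map (q ^ ·)).sum =
      evalP (geomP 6) q * evalP (geomP 8) q * evalP (geomP 12) q * (q ^ 5 + 1) * (q ^ 9 + 1) := by
    have h1 := congrArg (evalP · q) hist_id
    simp only [evalP_mul, evalP_hist, evalP_prod] at h1
    simp [evalP] at h1
    rw [show q + 1 = 1 + q by ring]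
    rw [h1]
    ring
  have g6 := evalP_geom 6 q hq1
  have g8 := evalP_geom 8 q hq1
  have g12 := evalP_geom 12 q hq1
  have g2 : q ^ 2 - 1 = (q - 1) * (q + 1) := by
    obtain ⟨p, rfl⟩ : ∃ p, q = p + 1 := ⟨q - 1, by omega⟩
    simp only [Nat.add_sub_cancel]
    rw [show (p + 1) ^ 2 = p * (p + 1 + 1) + 1 by ring]
    simp
  rw [g2, ← g6, ← g8, ← g12]
  calc Nat.gcd 3 (q + 1) * (q ^ 36 * Nat.card ↥(chevE6.diagonalSubgroup K ⊓ twistedE6 K q) * (W.E.map (q ^ ·)).sum)
      = q ^ 36 * (Nat.gcd 3 (q + 1) * Nat.card ↥(chevE6.diagonalSubgroup K ⊓ twistedE6 K q)) * (W.E.map (q ^ ·)).sum := by ring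
    _ = q ^ 36 * ((q - 1) ^ 4 * (q + 1) ^ 2) * (W.E.map (q ^ ·)).sum := by rw [hH]
    _ = q ^ 36 * ((q - 1) ^ 4 * (q + 1)) * ((q + 1) * (W.E.map (q ^ ·)).sum) := by ring
    _ = _ := by rw [hS]; ring

end Cfsg.Agent.Lib.Twisted.E6O
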