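import Cfsg.Agent.Lib.Twisted.OrderData.F4
import Cfsg.Agent.Lib.F24.Main
import Cfsg.Agent.Lib.F24.H1

/-! # The order of ²F₄ -/

set_option autoImplicit false
set_option linter.unusedSectionVars false
set_option linter.unusedVariables false
set_option linter.ambiguousOpen false

namespace Cfsg.Agent.Lib.Twisted.F4O

open scoped MatrixGroups Matrix
open Cfsg _root_.Cfsg.Lie ChevalleyDatum
open Cfsg.Agent.Lib.Chev
open Tables Tables2 Tables3 Raise Basic AxBasic Torus Products Products2 Mono1 Mono2 Mono3 Bn Order3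
open Cfsg.Agent.Lib.Twisted.Fact Cfsg.Agent.Lib.Twisted.Bruhat Cfsg.Agent.Lib.Twisted.Tw
open Cfsg.Agent.Lib.Twisted.Struct Cfsg.Agent.Lib.Twisted.Check Cfsg.Agent.Lib.Twisted.Ortho
open Cfsg.Agent.Lib.F24.Blocks Cfsg.Agent.Lib.F24.F4Data Cfsg.Agent.Lib.F24.Tw Cfsg.Agent.Lib.F24.WordEq
open Cfsg.Agent.Lib.F24.TD Cfsg.Agent.Lib.F24.Main
open Cfsg.Agent.Lib.Twisted.Order Cfsg.Agent.Lib.Twisted.OrderData.F4

/-- The classes as a function of naturals. -/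
def gn (a : ℕ) : Fin 2 := Fin.ofNat 2 a

theorem hgn : ∀ j : Fin 2, ∃ a, a < 2 ∧ gn a = j := by decide

theorem hw' : ∀ a : Fin 2, ∀ r : Fin 48, wWord chevF4 (Cf.wl a) r = byteAt (rowOf 48 Wt a) r := by decide +kernel

theorem hpsi' : ∀ a : Fin 2, ∀ r : Fin 48, psiB chevF4 (Cf.cls a) r = true → (r : ℕ) ∈ psiL a := by decide +kernel

theorem hposN : ∀ r, r < chevF4.nroots → (chevF4.IsPosRoot r ↔ chevF4.nroots / 2 ≤ r) := by decide +kernel

theorem hist_id : histOf W.E = polyProd [[1, 1], [1, 0, 1], [1, 0, 0, 1], [1, 0, 0, 0, 0, 0, 1]] := by decide +kernel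

section Fix

variable {K : Type*} [Field K] [CharP K 2] {e : ℕ}
variable (φ : K →+* K) (hφ : ∀ t, φ t = t ^ e) (hφ2 : ∀ t, (φ (φ t)) ^ 2 = t) (ax : Ax chevF4 K)

include φ hφ hφ2 ax in
theorem card_main [Finite K] :
    Nat.card (twistedF4 K e) = Nat.card ↥(chevF4.posUnipotent K ⊓ twistedF4 K e) *
      Nat.card ↥(chevF4.diagonalSubgroup K ⊓ twistedF4 K e) * (W.E.map (Nat.card K ^ ·)).sum := by
  refine card_of_wcert (c := 2) (Wt := Wt) (q := Nat.card K) (psiL := psiL) (deg := deg) (W := W) (TF φ hφ hφ2 ax) hF2 gn hgn ?_ ?_ ?_ hposN check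
  · intro a ha r
    have := hw' ⟨a, ha⟩ r
    have hl : ∀ i ∈ Cf.wl (gn a), i < chevF4.rank := wl_lt _
    show ((wPw hF (Cf.wl (gn a)) r : Fin chevF4.nroots) : ℕ) = _
    rw [wPw_val hF hl]
    have e : gn a = ⟨a, ha⟩ := Fin.ext (Nat.mod_eq_of_lt ha)
    rw [e]
    exact this
  · intro a ha r hr
    have e : gn a = ⟨a, ha⟩ := Fin.ext (Nat.mod_eq_of_lt ha)
    have hr' : Psi chevF4 (· ∈ Cf.cls ⟨a, ha⟩) r := by
      rw [← e]
      exact hr
    exact hpsi' ⟨a, ha⟩ r (psiB_iff.mpr hr')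
  · intro a ha
    have c0 := card0 (e := e) φ hφ hφ2 ax
    have c1 := card1 (e := e) φ hφ hφ2 ax
    interval_cases a
    · exact c0.trans (pow_one _).symm
    · exact c1

end Fix

variable {K : Type*} [Field K] [Fintype K] {m : ℕ}

/-- The order of ²F₄. -/
theorem card_F4 (hK : Fintype.card K = 2 ^ (2 * m + 1)) :
    Nat.card ↥(twistedF4 K (2 ^ m)) =
      (2 ^ (2 * m + 1)) ^ 12 * (2 ^ (2 * m + 1) - 1) * ((2 ^ (2 * m + 1)) ^ 3 + 1) * ((2 ^ (2 * m + 1)) ^ 4 - 1) * ((2 ^ (2 * m + 1)) ^ 6 + 1) := by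
  haveI := charP_of_card hK
  obtain ⟨φ, hφ, hφ2⟩ := exists_φ hK
  have ax : Ax chevF4 K := Cfsg.Agent.Lib.Lie.AxOf.ax_of_mem hmemF4
  have hM := card_main φ hφ hφ2 ax
  have hcard : Nat.card K = 2 ^ (2 * m + 1) := by rw [Nat.card_eq_fintype_card, hK]
  rw [hM, card_U_main hK, Cfsg.Agent.Lib.F24.H1.card_H1_main hK, hcard]
  generalize (2 : ℕ) ^ (2 * m + 1) = Q at *
  have hS : (W.E.map (Q ^ ·)).sum = (Q + 1) * (Q ^ 2 + 1) * (Q ^ 3 + 1) * (Q ^ 6 + 1) := by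
    have h1 := congrArg (evalP · Q) hist_id
    simp only [evalP_hist, evalP_prod] at h1
    simp [Cfsg.Agent.Lib.Chev.Order3.evalP] at h1
    rw [h1]
    ring
  rw [hS]
  have hQ : 1 ≤ Q := by
    have := Fintype.card_pos (α := K)
    omega
  obtain ⟨p, rfl⟩ : ∃ p, Q = p + 1 := ⟨Q - 1, by omega⟩
  have g4 : (p + 1) ^ 4 - 1 = p * (p + 2) * ((p + 1) ^ 2 + 1) := by
    rw [show (p + 1) ^ 4 = p * (p + 2) * ((p + 1) ^ 2 + 1) + 1 by ring]
    simp
  rw [g4]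
  simp only [Nat.add_sub_cancel]
  ring

end Cfsg.Agent.Lib.Twisted.F4O
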