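import Cfsg.Agent.Lib.Twisted.Bridge
import Cfsg.Prelude.Def_LieTwisted

/-! # Certificate for the group ²G₂(3), generated by a script. -/

set_option autoImplicit false

namespace Cfsg.Agent.Lib.Twisted.Ree3Data

open Cfsg.Lie Cfsg.Agent.Lib.Twisted Cfsg.Agent.Lib.Twisted.Sparse Cfsg.Agent.Lib.Twisted.Eval
open _root_.Cfsg.Agent.Lib.PermComp

def rr_n : Nat := nat_lit 56
def rr_w : Nat := nat_lit 6
def rr_mask : Nat := nat_lit 63
def rr_L : Nat := nat_lit 336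
def rr_maskL : Nat := nat_lit 0xffffffffffffffffffffffffffffffffffffffffffffffffffffffffffffffffffffffffffffffffffff
def rr_idc : Nat := nat_lit 0xdf6d74cf2c70beeb6caeaa689e69648e28607de75c6da6585d65544d24503ce34c2ca2481c61440c2040

def rr_G_T : List Nat := [nat_lit 0xbe502840852a59b3351c4c833ed4ee26115a48d75e911c6b3b77d9d958062c17269e32a96338b0d025ec, nat_lit 0xcc5552dd17a901b660607c0e0a599c4090ec2b15a4b8db6b21dd463f4ca34e868405f897a94d8c8672ef]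
def rr_G_prog : List (Nat × Nat × Nat) := [(nat_lit 1, nat_lit 1, nat_lit 0), (nat_lit 1, nat_lit 1, nat_lit 0), (nat_lit 0, nat_lit 1, nat_lit 1), (nat_lit 0, nat_lit 3, nat_lit 3), (nat_lit 0, nat_lit 0, nat_lit 5), (nat_lit 0, nat_lit 0, nat_lit 5), (nat_lit 0, nat_lit 0, nat_lit 7), (nat_lit 0, nat_lit 0, nat_lit 8), (nat_lit 0, nat_lit 5, nat_lit 6), (nat_lit 0, nat_lit 0, nat_lit 8), (nat_lit 0, nat_lit 0, nat_lit 9), (nat_lit 0, nat_lit 3, nat_lit 11), (nat_lit 0, nat_lit 0, nat_lit 13), (nat_lit 0, nat_lit 0, nat_lit 13), (nat_lit 0, nat_lit 0, nat_lit 15), (nat_lit 0, nat_lit 0, nat_lit 16), (nat_lit 0, nat_lit 5, nat_lit 14), (nat_lit 0, nat_lit 0, nat_lit 16), (nat_lit 0, nat_lit 0, nat_lit 17), (nat_lit 0, nat_lit 0, nat_lit 17), (nat_lit 0, nat_lit 0, nat_lit 4)]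
def rr_G_s0 : Nat := nat_lit 0xbe502840852a59b3351c4c833ed4ee26115a48d75e911c6b3b77d9d958062c17269e32a96338b0d025ec
def rr_G_s1 : Nat := nat_lit 0xbadb2aa6b9a89e08a17de7648e5c2fc75df6d33c840c22482851c669c6d961755458f3902cd313491040
noncomputable def rr_G_lev0 : Core.Lev := Core.mkLev rr_n rr_w rr_mask rr_L rr_maskL rr_idc (nat_lit 0) [rr_G_s1, rr_G_s0] [(nat_lit 44, rr_G_s0, nat_lit 0), (nat_lit 33, rr_G_s1, nat_lit 44), (nat_lit 53, rr_G_s0, nat_lit 44), (nat_lit 55, rr_G_s1, nat_lit 33), (nat_lit 5, rr_G_s0, nat_lit 33), (nat_lit 46, rr_G_s1, nat_lit 55), (nat_lit 47, rr_G_s0, nat_lit 55), (nat_lit 12, rr_G_s1, nat_lit 5), (nat_lit 34, rr_G_s0, nat_lit 5), (nat_lit 32, rr_G_s1, nat_lit 46), (nat_lit 27, rr_G_s0, nat_lit 46), (nat_lit 39, rr_G_s1, nat_lit 47), (nat_lit 22, rr_G_s0, nat_lit 47), (nat_lit 20, rr_G_s1, nat_lit 12), (nat_lit 38, rr_G_s0, nat_lit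 12), (nat_lit 54, rr_G_s1, nat_lit 32), (nat_lit 26, rr_G_s0, nat_lit 32), (nat_lit 3, rr_G_s1, nat_lit 27), (nat_lit 36, rr_G_s0, nat_lit 27), (nat_lit 35, rr_G_s1, nat_lit 39), (nat_lit 15, rr_G_s0, nat_lit 39), (nat_lit 6, rr_G_s1, nat_lit 20), (nat_lit 25, rr_G_s0, nat_lit 20), (nat_lit 37, rr_G_s1, nat_lit 38), (nat_lit 45, rr_G_s0, nat_lit 38), (nat_lit 2, rr_G_s1, nat_lit 26), (nat_lit 17, rr_G_s0, nat_lit 26), (nat_lit 18, rr_G_s1, nat_lit 3), (nat_lit 52, rr_G_s0, nat_lit 3), (nat_lit 49, rr_G_s1, nat_lit 35), (nat_lit 9, rr_G_s0, nat_lit 35), (nat_lit 24, rr_G_s1, nat_lit 15), (nat_lit 11, rr_G_s0, nat_lit 15), (nat_lit 13, rr_G_s1, nat_lit 6), (nat_lit 51, rr_G_s0, nat_lit 6), (nat_lit 48, rr_G_s1, nat_lit 37), (nat_lit 19, rr_G_s0, nat_lit 37), (nat_lit 28, rr_G_s1, nat_lit 18), (nat_lit 21, rr_G_s0, nat_lit 18), (nat_lit 42, rr_G_s1, nat_lit 52),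 (nat_lit 40, rr_G_s0, nat_lit 52), (nat_lit 14, rr_G_s1, nat_lit 9), (nat_lit 10, rr_G_s0, nat_lit 9), (nat_lit 8, rr_G_s1, nat_lit 24), (nat_lit 43, rr_G_s0, nat_lit 24), (nat_lit 41, rr_G_s1, nat_lit 51), (nat_lit 16, rr_G_s0, nat_lit 51), (nat_lit 4, rr_G_s1, nat_lit 28), (nat_lit 30, rr_G_s0, nat_lit 28), (nat_lit 7, rr_G_s1, nat_lit 21), (nat_lit 31, rr_G_s0, nat_lit 21), (nat_lit 23, rr_G_s1, nat_lit 14), (nat_lit 1, rr_G_s0, nat_lit 14), (nat_lit 29, rr_G_s1, nat_lit 41), (nat_lit 50, rr_G_s0, nat_lit 41)]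
noncomputable def rr_G_lev1 : Core.Lev := Core.mkLev rr_n rr_w rr_mask rr_L rr_maskL rr_idc (nat_lit 2) [rr_G_s1] [(nat_lit 17, rr_G_s1, nat_lit 2), (nat_lit 27, rr_G_s1, nat_lit 17), (nat_lit 3, rr_G_s1, nat_lit 27), (nat_lit 18, rr_G_s1, nat_lit 3), (nat_lit 28, rr_G_s1, nat_lit 18), (nat_lit 4, rr_G_s1, nat_lit 28), (nat_lit 19, rr_G_s1, nat_lit 4), (nat_lit 26, rr_G_s1, nat_lit 19)]
noncomputable def rr_G_levels : List Core.Lev := [rr_G_lev0, rr_G_lev1]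

def rr_R0_T : List Nat := [nat_lit 0xc829928f7ba72f10ebb25695c35a8ace01e26414065e97cc6cda0e1743dd454598be420985c4c0b76784, nat_lit 0x74b68566a32641e4d61f23955f089b4a528802edd1935cc49eca0db6372f0a9531da11a0ac9d1804f0df, nat_lit 0x40f3924532cd30828910308614755459765871b69f79d8608a3964cb4cf7db5c2fc6db2e9a89ebaa9001]
def rr_R0_prog : List (Nat × Nat × Nat) := [(nat_lit 1, nat_lit 2, nat_lit 0), (nat_lit 1, nat_lit 2, nat_lit 0), (nat_lit 1, nat_lit 2, nat_lit 0), (nat_lit 0, nat_lit 3, nat_lit 4), (nat_lit 0, nat_lit 3, nat_lit 2), (nat_lit 0, nat_lit 0, nat_lit 2), (nat_lit 0, nat_lit 2, nat_lit 8), (nat_lit 0, nat_lit 0, nat_lit 7), (nat_lit 0, nat_lit 2, nat_lit 6), (nat_lit 0, nat_lit 0, nat_lit 1)]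
def rr_R0_s0 : Nat := nat_lit 0xc829928f7ba72f10ebb25695c35a8ace01e26414065e97cc6cda0e1743dd454598be420985c4c0b76784
def rr_R0_s1 : Nat := nat_lit 0xbadb2aa6b9a89e08a17de7648e5c2fc75df6d33c840c22482851c669c6d961755458f3902cd313491040
noncomputable def rr_R0_lev0 : Core.Lev := Core.mkLev rr_n rr_w rr_mask rr_L rr_maskL rr_idc (nat_lit 0) [rr_R0_s1, rr_R0_s0] [(nat_lit 4, rr_R0_s0, nat_lit 0), (nat_lit 19, rr_R0_s1, nat_lit 4), (nat_lit 26, rr_R0_s1, nat_lit 19), (nat_lit 5, rr_R0_s0, nat_lit 19), (nat_lit 2, rr_R0_s1, nat_lit 26), (nat_lit 41, rr_R0_s0, nat_lit 26), (nat_lit 12, rr_R0_s1, nat_lit 5), (nat_lit 17, rr_R0_s1, nat_lit 2), (nat_lit 54, rr_R0_s0, nat_lit 2), (nat_lit 29, rr_R0_s1, nat_lit 41), (nat_lit 20, rr_R0_s1, nat_lit 12), (nat_lit 24, rr_R0_s0, nat_lit 12), (nat_lit 27, rr_R0_s1, nat_lit 17), (nat_lit 15, rr_R0_s0, nat_lit 17), (nat_lit 45, rr_R0_s1,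 nat_lit 54), (nat_lit 50, rr_R0_s1, nat_lit 29), (nat_lit 16, rr_R0_s0, nat_lit 29), (nat_lit 6, rr_R0_s1, nat_lit 20), (nat_lit 14, rr_R0_s0, nat_lit 20), (nat_lit 8, rr_R0_s1, nat_lit 24), (nat_lit 3, rr_R0_s1, nat_lit 27), (nat_lit 23, rr_R0_s0, nat_lit 27), (nat_lit 34, rr_R0_s1, nat_lit 45), (nat_lit 43, rr_R0_s1, nat_lit 50), (nat_lit 55, rr_R0_s0, nat_lit 50), (nat_lit 25, rr_R0_s1, nat_lit 16), (nat_lit 13, rr_R0_s1, nat_lit 6), (nat_lit 28, rr_R0_s0, nat_lit 6), (nat_lit 9, rr_R0_s0, nat_lit 8), (nat_lit 18, rr_R0_s1, nat_lit 3), (nat_lit 10, rr_R0_s1, nat_lit 23), (nat_lit 53, rr_R0_s1, nat_lit 34), (nat_lit 32, rr_R0_s0, nat_lit 34), (nat_lit 31, rr_R0_s1, nat_lit 43), (nat_lit 44, rr_R0_s0, nat_lit 43), (nat_lit 46, rr_R0_s1, nat_lit 55), (nat_lit 21, rr_R0_s1, nat_lit 13), (nat_lit 22, rr_R0_s0, nat_lit 13), (nat_lit 52, rr_R0_s0, nat_lit 18), (nat_lit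 36, rr_R0_s0, nat_lit 10), (nat_lit 38, rr_R0_s0, nat_lit 53), (nat_lit 33, rr_R0_s1, nat_lit 44), (nat_lit 49, rr_R0_s0, nat_lit 46), (nat_lit 7, rr_R0_s1, nat_lit 21), (nat_lit 40, rr_R0_s0, nat_lit 21), (nat_lit 42, rr_R0_s1, nat_lit 52), (nat_lit 47, rr_R0_s1, nat_lit 36), (nat_lit 37, rr_R0_s1, nat_lit 38), (nat_lit 11, rr_R0_s1, nat_lit 7), (nat_lit 30, rr_R0_s1, nat_lit 42), (nat_lit 39, rr_R0_s1, nat_lit 47), (nat_lit 48, rr_R0_s1, nat_lit 37), (nat_lit 51, rr_R0_s1, nat_lit 30), (nat_lit 1, rr_R0_s0, nat_lit 30), (nat_lit 35, rr_R0_s1, nat_lit 39)]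
noncomputable def rr_R0_lev1 : Core.Lev := Core.mkLev rr_n rr_w rr_mask rr_L rr_maskL rr_idc (nat_lit 2) [rr_R0_s1] [(nat_lit 17, rr_R0_s1, nat_lit 2), (nat_lit 27, rr_R0_s1, nat_lit 17), (nat_lit 3, rr_R0_s1, nat_lit 27), (nat_lit 18, rr_R0_s1, nat_lit 3), (nat_lit 28, rr_R0_s1, nat_lit 18), (nat_lit 4, rr_R0_s1, nat_lit 28), (nat_lit 19, rr_R0_s1, nat_lit 4), (nat_lit 26, rr_R0_s1, nat_lit 19)]
noncomputable def rr_R0_levels : List Core.Lev := [rr_R0_lev0, rr_R0_lev1]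

noncomputable def rr_R0_cert : Simple.RepCert := ⟨nat_lit 0xcc5552dd17a901b660607c0e0a599c4090ec2b15a4b8db6b21dd463f4ca34e868405f897a94d8c8672ef, [(nat_lit 0, nat_lit 0, nat_lit 1), (nat_lit 0, nat_lit 0, nat_lit 1), (nat_lit 0, nat_lit 0, nat_lit 3), (nat_lit 0, nat_lit 0, nat_lit 3), (nat_lit 0, nat_lit 0, nat_lit 4), (nat_lit 0, nat_lit 0, nat_lit 6), (nat_lit 0, nat_lit 0, nat_lit 6), (nat_lit 0, nat_lit 0, nat_lit 7), (nat_lit 0, nat_lit 0, nat_lit 9), (nat_lit 0, nat_lit 0, nat_lit 10), (nat_lit 0, nat_lit 10, nat_lit 10), (nat_lit 0, nat_lit 0, nat_lit 12), (nat_lit 0, nat_lit 0, nat_lit 12), (nat_lit 0, nat_lit 0, nat_lit 14), (nat_lit 0, nat_lit 0, nat_lit 15), (nat_lit 0, nat_lit 0, nat_lit 15), (nat_lit 0, nat_lit 0, nat_lit 16), (nat_lit 0, nat_lit 0, nat_lit 18), (nat_lit 0, nat_lit 19, nat_lit 18), (nat_lit 0, nat_lit 0, nat_lit 19), (nat_lit 0,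 nat_lit 0, nat_lit 20), (nat_lit 0, nat_lit 0, nat_lit 22)], [(nat_lit 0xc829928f7ba72f10ebb25695c35a8ace01e26414065e97cc6cda0e1743dd454598be420985c4c0b76784, nat_lit 0x81974b8a8deb5aea4a325b3615e05c0d29a43b2cc6c5769886340426f56d2026cf9d4d07a807d1d53c0d), (nat_lit 0x74b68566a32641e4d61f23955f089b4a528802edd1935cc49eca0db6372f0a9531da11a0ac9d1804f0df, nat_lit 0x4227d5be0372b24c5aad8a81093b5e18ad358d4dee6dc307a5d0332e8209d834705d284e11996614f9d6), (nat_lit 0x40f3924532cd30828910308614755459765871b69f79d8608a3964cb4cf7db5c2fc6db2e9a89ebaa9001, nat_lit 0xb2d58124ecd875bc1f126805db12e487495ca11dd478836b0d08cc880d595e7b930864aa1ef2b254fa5a)], rr_R0_prog, rr_R0_levels⟩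

def rr_R1_T : List Nat := [nat_lit 0xd8d0f469688f6c09af5ce8c77466614c456ea8c475b055012c2925a529f041fdc9ae87982adcf1732220, nat_lit 0x319099ce515a7770dd050ac110291b5b8067d32e349da8fc1e5f65a2d4c047a26688ae5ca16730ef62e]
def rr_R1_prog : List (Nat × Nat × Nat) := [(nat_lit 1, nat_lit 0, nat_lit 0), (nat_lit 0, nat_lit 1, nat_lit 2), (nat_lit 0, nat_lit 0, nat_lit 2), (nat_lit 0, nat_lit 0, nat_lit 3), (nat_lit 0, nat_lit 0, nat_lit 4), (nat_lit 0, nat_lit 0, nat_lit 6), (nat_lit 0, nat_lit 5, nat_lit 5), (nat_lit 0, nat_lit 0, nat_lit 1)]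
def rr_R1_s0 : Nat := nat_lit 0xd8d0f469688f6c09af5ce8c77466614c456ea8c475b055012c2925a529f041fdc9ae87982adcf1732220
def rr_R1_s1 : Nat := nat_lit 0xb2eb6baa99e6a2182275f7a5923c70bf6d77cb4cc308420a24718571b6985d951654e40f34c2d2453040
noncomputable def rr_R1_lev0 : Core.Lev := Core.mkLev rr_n rr_w rr_mask rr_L rr_maskL rr_idc (nat_lit 0) [rr_R1_s1, rr_R1_s0] [(nat_lit 32, rr_R1_s0, nat_lit 0), (nat_lit 55, rr_R1_s1, nat_lit 32), (nat_lit 46, rr_R1_s0, nat_lit 32), (nat_lit 44, rr_R1_s1, nat_lit 55), (nat_lit 54, rr_R1_s0, nat_lit 55), (nat_lit 33, rr_R1_s1, nat_lit 46), (nat_lit 34, rr_R1_s1, nat_lit 44), (nat_lit 47, rr_R1_s0, nat_lit 44), (nat_lit 13, rr_R1_s0, nat_lit 54), (nat_lit 53, rr_R1_s1, nat_lit 33), (nat_lit 21, rr_R1_s0, nat_lit 33), (nat_lit 4, rr_R1_s0, nat_lit 34), (nat_lit 40, rr_R1_s1, nat_lit 47), (nat_lit 27, rr_R1_s0, nat_lit 47), (nat_lit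 20, rr_R1_s1, nat_lit 13), (nat_lit 45, rr_R1_s1, nat_lit 53), (nat_lit 3, rr_R1_s0, nat_lit 53), (nat_lit 6, rr_R1_s1, nat_lit 21), (nat_lit 36, rr_R1_s0, nat_lit 21), (nat_lit 18, rr_R1_s1, nat_lit 4), (nat_lit 49, rr_R1_s0, nat_lit 4), (nat_lit 37, rr_R1_s1, nat_lit 40), (nat_lit 7, rr_R1_s0, nat_lit 40), (nat_lit 2, rr_R1_s1, nat_lit 27), (nat_lit 5, rr_R1_s1, nat_lit 20), (nat_lit 38, rr_R1_s0, nat_lit 45), (nat_lit 17, rr_R1_s1, nat_lit 3), (nat_lit 28, rr_R1_s0, nat_lit 3), (nat_lit 12, rr_R1_s1, nat_lit 6), (nat_lit 48, rr_R1_s1, nat_lit 36), (nat_lit 39, rr_R1_s1, nat_lit 49), (nat_lit 25, rr_R1_s0, nat_lit 37), (nat_lit 10, rr_R1_s0, nat_lit 7), (nat_lit 19, rr_R1_s1, nat_lit 2), (nat_lit 50, rr_R1_s0, nat_lit 2), (nat_lit 11, rr_R1_s1, nat_lit 5), (nat_lit 51, rr_R1_s0, nat_lit 5), (nat_lit 35, rr_R1_s1, nat_lit 38), (nat_lit 26, rr_R1_s1, nat_lit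 17), (nat_lit 22, rr_R1_s1, nat_lit 12), (nat_lit 9, rr_R1_s0, nat_lit 12), (nat_lit 15, rr_R1_s0, nat_lit 48), (nat_lit 29, rr_R1_s0, nat_lit 39), (nat_lit 8, rr_R1_s1, nat_lit 25), (nat_lit 14, rr_R1_s1, nat_lit 10), (nat_lit 41, rr_R1_s0, nat_lit 19), (nat_lit 43, rr_R1_s0, nat_lit 11), (nat_lit 42, rr_R1_s1, nat_lit 51), (nat_lit 16, rr_R1_s1, nat_lit 9), (nat_lit 30, rr_R1_s0, nat_lit 9), (nat_lit 23, rr_R1_s1, nat_lit 15), (nat_lit 24, rr_R1_s0, nat_lit 8), (nat_lit 31, rr_R1_s0, nat_lit 14), (nat_lit 52, rr_R1_s1, nat_lit 30), (nat_lit 1, rr_R1_s0, nat_lit 24)]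
noncomputable def rr_R1_lev1 : Core.Lev := Core.mkLev rr_n rr_w rr_mask rr_L rr_maskL rr_idc (nat_lit 2) [rr_R1_s1] [(nat_lit 19, rr_R1_s1, nat_lit 2), (nat_lit 28, rr_R1_s1, nat_lit 19), (nat_lit 3, rr_R1_s1, nat_lit 28), (nat_lit 17, rr_R1_s1, nat_lit 3), (nat_lit 26, rr_R1_s1, nat_lit 17), (nat_lit 4, rr_R1_s1, nat_lit 26), (nat_lit 18, rr_R1_s1, nat_lit 4), (nat_lit 27, rr_R1_s1, nat_lit 18)]
noncomputable def rr_R1_levels : List Core.Lev := [rr_R1_lev0, rr_R1_lev1]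

noncomputable def rr_R1_cert : Simple.RepCert := ⟨nat_lit 0xa3102560f15f1c25ad352a515e07214352c46d4cf4c1a9dd66cc88b86dcc5410e392f39e2aada6ad3262, [(nat_lit 0, nat_lit 1, nat_lit 1), (nat_lit 0, nat_lit 0, nat_lit 1), (nat_lit 0, nat_lit 0, nat_lit 3), (nat_lit 0, nat_lit 0, nat_lit 3), (nat_lit 0, nat_lit 0, nat_lit 5), (nat_lit 0, nat_lit 0, nat_lit 5), (nat_lit 0, nat_lit 0, nat_lit 7), (nat_lit 0, nat_lit 0, nat_lit 8), (nat_lit 0, nat_lit 0, nat_lit 9), (nat_lit 0, nat_lit 0, nat_lit 9), (nat_lit 0, nat_lit 0, nat_lit 10), (nat_lit 0, nat_lit 0, nat_lit 11), (nat_lit 0, nat_lit 0, nat_lit 12), (nat_lit 0, nat_lit 0, nat_lit 14), (nat_lit 0, nat_lit 15, nat_lit 14), (nat_lit 0, nat_lit 0, nat_lit 15), (nat_lit 0, nat_lit 0, nat_lit 16), (nat_lit 0, nat_lit 0, nat_lit 18), (nat_lit 0, nat_lit 0, nat_lit 18), (nat_lit 0, nat_lit 0, nat_lit 20), (nat_lit 0,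 nat_lit 0, nat_lit 21)], [(nat_lit 0xd8d0f469688f6c09af5ce8c77466614c456ea8c475b055012c2925a529f041fdc9ae87982adcf1732220, nat_lit 0x79cbc2a22d701a46b3da748c8e0c997ec52e3c1296434a474c5c4855d26a10b34e9665d8b510c0de1adb), (nat_lit 0x319099ce515a7770dd050ac110291b5b8067d32e349da8fc1e5f65a2d4c047a26688ae5ca16730ef62e, nat_lit 0xdd7725318c132542dd1200c0a7229ba2d48e5a440879fbe609a051c46bac3eaccd8b4675ae15479f6163)], rr_R1_prog, rr_R1_levels⟩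

def rr_R2_T : List Nat := [nat_lit 0x2370a628d653c504629c73988c30347aa2c6b1a6e45b5cb6245b9f854c0f81dced32f7254811295eb568, nat_lit 0x10ba8955d34e9665d8de1003b51205c691d343458a3c1b14b997f2a220af79cd701a46b38e0312da76eb]
def rr_R2_prog : List (Nat × Nat × Nat) := [(nat_lit 1, nat_lit 1, nat_lit 0), (nat_lit 1, nat_lit 1, nat_lit 0), (nat_lit 0, nat_lit 3, nat_lit 3), (nat_lit 0, nat_lit 0, nat_lit 4), (nat_lit 0, nat_lit 0, nat_lit 4), (nat_lit 0, nat_lit 0, nat_lit 5), (nat_lit 0, nat_lit 0, nat_lit 7), (nat_lit 0, nat_lit 0, nat_lit 7), (nat_lit 0, nat_lit 7, nat_lit 6), (nat_lit 0, nat_lit 0, nat_lit 8), (nat_lit 0, nat_lit 0, nat_lit 9), (nat_lit 0, nat_lit 0, nat_lit 10), (nat_lit 0, nat_lit 0, nat_lit 11), (nat_lit 0, nat_lit 0, nat_lit 5)]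
def rr_R2_s0 : Nat := nat_lit 0x2370a628d653c504629c73988c30347aa2c6b1a6e45b5cb6245b9f854c0f81dced32f7254811295eb568
def rr_R2_s1 : Nat := nat_lit 0xb6cba9aeaa279a286079d7e3964bf1c37db5cf2d021032892061476da7176585955103ce30b3514d2040
noncomputable def rr_R2_lev0 : Core.Lev := Core.mkLev rr_n rr_w rr_mask rr_L rr_maskL rr_idc (nat_lit 0) [rr_R2_s1, rr_R2_s0] [(nat_lit 40, rr_R2_s0, nat_lit 0), (nat_lit 35, rr_R2_s1, nat_lit 40), (nat_lit 24, rr_R2_s0, nat_lit 40), (nat_lit 48, rr_R2_s1, nat_lit 35), (nat_lit 30, rr_R2_s0, nat_lit 35), (nat_lit 9, rr_R2_s1, nat_lit 24), (nat_lit 54, rr_R2_s0, nat_lit 24), (nat_lit 39, rr_R2_s1, nat_lit 48), (nat_lit 19, rr_R2_s0, nat_lit 48), (nat_lit 50, rr_R2_s1, nat_lit 30), (nat_lit 26, rr_R2_s0, nat_lit 30), (nat_lit 15, rr_R2_s1, nat_lit 9), (nat_lit 28, rr_R2_s0, nat_lit 9), (nat_lit 44, rr_R2_s1, nat_lit 54), (nat_lit 55,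 rr_R2_s0, nat_lit 54), (nat_lit 37, rr_R2_s1, nat_lit 39), (nat_lit 27, rr_R2_s1, nat_lit 19), (nat_lit 33, rr_R2_s0, nat_lit 19), (nat_lit 42, rr_R2_s1, nat_lit 50), (nat_lit 13, rr_R2_s0, nat_lit 50), (nat_lit 3, rr_R2_s1, nat_lit 26), (nat_lit 53, rr_R2_s0, nat_lit 26), (nat_lit 25, rr_R2_s1, nat_lit 15), (nat_lit 32, rr_R2_s0, nat_lit 15), (nat_lit 2, rr_R2_s1, nat_lit 28), (nat_lit 36, rr_R2_s0, nat_lit 28), (nat_lit 34, rr_R2_s0, nat_lit 44), (nat_lit 45, rr_R2_s1, nat_lit 55), (nat_lit 8, rr_R2_s0, nat_lit 55), (nat_lit 47, rr_R2_s1, nat_lit 37), (nat_lit 4, rr_R2_s1, nat_lit 27), (nat_lit 22, rr_R2_s0, nat_lit 27), (nat_lit 11, rr_R2_s0, nat_lit 33), (nat_lit 29, rr_R2_s1, nat_lit 42), (nat_lit 7, rr_R2_s0, nat_lit 42), (nat_lit 51, rr_R2_s0, nat_lit 13), (nat_lit 23, rr_R2_s0, nat_lit 3), (nat_lit 46, rr_R2_s1, nat_lit 53), (nat_lit 10, rr_R2_s1, nat_lit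 25), (nat_lit 6, rr_R2_s0, nat_lit 32), (nat_lit 18, rr_R2_s1, nat_lit 2), (nat_lit 43, rr_R2_s0, nat_lit 2), (nat_lit 49, rr_R2_s1, nat_lit 36), (nat_lit 52, rr_R2_s0, nat_lit 36), (nat_lit 17, rr_R2_s0, nat_lit 45), (nat_lit 14, rr_R2_s1, nat_lit 8), (nat_lit 38, rr_R2_s1, nat_lit 47), (nat_lit 41, rr_R2_s0, nat_lit 4), (nat_lit 5, rr_R2_s0, nat_lit 22), (nat_lit 20, rr_R2_s1, nat_lit 11), (nat_lit 12, rr_R2_s0, nat_lit 11), (nat_lit 16, rr_R2_s0, nat_lit 46), (nat_lit 1, rr_R2_s0, nat_lit 6), (nat_lit 31, rr_R2_s1, nat_lit 41), (nat_lit 21, rr_R2_s1, nat_lit 12)]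
noncomputable def rr_R2_lev1 : Core.Lev := Core.mkLev rr_n rr_w rr_mask rr_L rr_maskL rr_idc (nat_lit 2) [rr_R2_s1] [(nat_lit 18, rr_R2_s1, nat_lit 2), (nat_lit 26, rr_R2_s1, nat_lit 18), (nat_lit 3, rr_R2_s1, nat_lit 26), (nat_lit 19, rr_R2_s1, nat_lit 3), (nat_lit 27, rr_R2_s1, nat_lit 19), (nat_lit 4, rr_R2_s1, nat_lit 27), (nat_lit 17, rr_R2_s1, nat_lit 4), (nat_lit 28, rr_R2_s1, nat_lit 17)]
noncomputable def rr_R2_levels : List Core.Lev := [rr_R2_lev0, rr_R2_lev1]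

noncomputable def rr_R2_cert : Simple.RepCert := ⟨nat_lit 0x6f56578cb23149e58d08387302a989690b913d595f74a9c4c014dc16cbceaed320d18db2894a68dc61e4, [(nat_lit 0, nat_lit 1, nat_lit 1), (nat_lit 0, nat_lit 0, nat_lit 2), (nat_lit 0, nat_lit 0, nat_lit 2), (nat_lit 0, nat_lit 0, nat_lit 4), (nat_lit 0, nat_lit 0, nat_lit 5), (nat_lit 0, nat_lit 0, nat_lit 5), (nat_lit 0, nat_lit 0, nat_lit 6), (nat_lit 0, nat_lit 8, nat_lit 7), (nat_lit 0, nat_lit 0, nat_lit 8), (nat_lit 0, nat_lit 0, nat_lit 9), (nat_lit 0, nat_lit 0, nat_lit 11), (nat_lit 0, nat_lit 0, nat_lit 12), (nat_lit 0, nat_lit 0, nat_lit 12), (nat_lit 0, nat_lit 0, nat_lit 13), (nat_lit 0, nat_lit 0, nat_lit 15), (nat_lit 0, nat_lit 0, nat_lit 15), (nat_lit 0, nat_lit 0, nat_lit 17), (nat_lit 0, nat_lit 0, nat_lit 17), (nat_lit 0, nat_lit 0, nat_lit 19), (nat_lit 0, nat_lit 0, nat_lit 20), (nat_lit 0, nat_lit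 0, nat_lit 20)], [(nat_lit 0x2370a628d653c504629c73988c30347aa2c6b1a6e45b5cb6245b9f854c0f81dced32f7254811295eb568, nat_lit 0x74f821530b4ccdc96fae95d204416e7f6272d6459a6ec1aa2c0d1e98a377088c594e24116230c73a7a15), (nat_lit 0x10ba8955d34e9665d8de1003b51205c691d343458a3c1b14b997f2a220af79cd701a46b38e0312da76eb, nat_lit 0xc680c975e6c14ae429c07b722e1aa05b35f7166d64359d986af44a0a211531f02bd2c4cf21c9d48ce946)], rr_R2_prog, rr_R2_levels⟩

def rr_P0_T : List Nat := [nat_lit 0xcc5552dd17a901b660607c0e0a599c4090ec2b15a4b8db6b21dd463f4ca34e868405f897a94d8c8672ef, nat_lit 0x551622edc314d8ca66e479076c82a3b42a50e99c7ac446e502d97bc966802330dce1486708d5a7d6dcf, nat_lit 0xbd03ad02211adc3d1429d3559172271726c660ca8287049f987a2c0592762f5a5e3eb4655a08f1b9c4f3]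
def rr_P0_prog : List (Nat × Nat × Nat) := []
def rr_P0_s0 : Nat := nat_lit 0xcc5552dd17a901b660607c0e0a599c4090ec2b15a4b8db6b21dd463f4ca34e868405f897a94d8c8672ef
def rr_P0_s1 : Nat := nat_lit 0x551622edc314d8ca66e479076c82a3b42a50e99c7ac446e502d97bc966802330dce1486708d5a7d6dcf
def rr_P0_s2 : Nat := nat_lit 0xbd03ad02211adc3d1429d3559172271726c660ca8287049f987a2c0592762f5a5e3eb4655a08f1b9c4f3
noncomputable def rr_P0_lev0 : Core.Lev := Core.mkLev rr_n rr_w rr_mask rr_L rr_maskL rr_idc (nat_lit 0) [rr_P0_s0, rr_P0_s1, rr_P0_s2] [(nat_lit 47, rr_P0_s0, nat_lit 0), (nat_lit 15, rr_P0_s1, nat_lit 0), (nat_lit 51, rr_P0_s2, nat_lit 0), (nat_lit 19, rr_P0_s1, nat_lit 47), (nat_lit 55, rr_P0_s2, nat_lit 47), (nat_lit 11, rr_P0_s2, nat_lit 15), (nat_lit 1, rr_P0_s2, nat_lit 19)]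
noncomputable def rr_P0_levels : List Core.Lev := [rr_P0_lev0]

noncomputable def rr_P0_cert : Simple.SylCert := ⟨nat_lit 2, nat_lit 8, rr_P0_T, rr_P0_prog, rr_P0_levels, [nat_lit 0xdf6d74cf2c70beeb6caeaa689e69648e28607de75c6da6585d65544d24503ce34c2ca2481c61440c2040], [(nat_lit 0xcc5552dd17a901b660607c0e0a599c4090ec2b15a4b8db6b21dd463f4ca34e868405f897a94d8c8672ef, nat_lit 0xdf6d74cf2c70beeb6caeaa689e69648e28607de75c6da6585d65544d24503ce34c2ca2481c61440c2040, nat_lit 1, nat_lit 0xcc5552dd17a901b660607c0e0a599c4090ec2b15a4b8db6b21dd463f4ca34e868405f897a94d8c8672ef), (nat_lit 0x551622edc314d8ca66e479076c82a3b42a50e99c7ac446e502d97bc966802330dce1486708d5a7d6dcf, nat_lit 0x7a1626360575a49b2ab4b8dfdc70816e5467d10cef6455e270f0e4c1420a12e3a86b219601daf6493c4c, nat_lit 1, nat_lit 0xcc5552dd17a901b660607c0e0a599c4090ec2b15a4b8db6b21dd463f4ca34e868405f897a94d8c8672ef),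 (nat_lit 0xbd03ad02211adc3d1429d3559172271726c660ca8287049f987a2c0592762f5a5e3eb4655a08f1b9c4f3, nat_lit 0xd74667d87ae15660af21e7d1681ccd8aab0f1aec448037542e9c804169123ad29ba17737c1325894c8c5, nat_lit 1, nat_lit 0xcc5552dd17a901b660607c0e0a599c4090ec2b15a4b8db6b21dd463f4ca34e868405f897a94d8c8672ef), (nat_lit 0x2f5d89059a5e3eb465b9cc635a0b07a127e68700aa60cc9b1a7148022b4ebd011adc3d1491754d29dcd3, nat_lit 0x18b0558369dc9a98cac340b38987d9dcec6b7a445235d15a8494ee22842f940a9650cd5bb433c7132b17, nat_lit 1, nat_lit 0xcc5552dd17a901b660607c0e0a599c4090ec2b15a4b8db6b21dd463f4ca34e868405f897a94d8c8672ef), (nat_lit 0x23a19bc930dce14867d66b57085c2d91b94ac41e70e9d0a96a3a02ed885055c314d8ca676c41e6e43f7, nat_lit 0x7d79af6f3d09b9604d1f6b658c4a7520f771a91a10919027c0519eacb4ec0d4892602dcc39a83271584a, nat_lit 1, nat_lit 0xcc5552dd17a901b660607c0e0a599c4090ec2b15a4b8db6b21dd463f4ca34e868405f897a94d8c8672ef),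 (nat_lit 0x4e88f23f468405f897867336a9419dd6dac8b8d9162b1243b1c426dd1495cc57a901b6600a53b0607bcb, nat_lit 0x71e36b1d83cb9d57d2406cf151946068a8c9d40b25d930e8d2632d91bb84ab0bf7585862232a4139709d, nat_lit 1, nat_lit 0xcc5552dd17a901b660607c0e0a599c4090ec2b15a4b8db6b21dd463f4ca34e868405f897a94d8c8672ef), (nat_lit 0x3ce4114d234c2ca2480c21051c65165596176da71d7de8a18248e5cf2d35df6c70beeb6c9e6a29aea001, nat_lit 0x88771e44cb08480c233ca996ad53ae09a2f6cc60e1dd434115b9e8c84c6426a817d2fa506357654df66d, nat_lit 1, nat_lit 0xcc5552dd17a901b660607c0e0a599c4090ec2b15a4b8db6b21dd463f4ca34e868405f897a94d8c8672ef)], [(nat_lit 1, nat_lit 1, nat_lit 0), (nat_lit 0, nat_lit 2, nat_lit 0), (nat_lit 1, nat_lit 2, nat_lit 0), (nat_lit 0, nat_lit 0, nat_lit 2), (nat_lit 0, nat_lit 3, nat_lit 0), (nat_lit 0, nat_lit 2, nat_lit 0), (nat_lit 0, nat_lit 5, nat_lit 0), (nat_lit 0, nat_lit 4,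 nat_lit 0), (nat_lit 0, nat_lit 7, nat_lit 0), (nat_lit 0, nat_lit 8, nat_lit 0), (nat_lit 0, nat_lit 7, nat_lit 0), (nat_lit 0, nat_lit 10, nat_lit 0), (nat_lit 0, nat_lit 11, nat_lit 0), (nat_lit 0, nat_lit 10, nat_lit 0), (nat_lit 0, nat_lit 13, nat_lit 0), (nat_lit 0, nat_lit 14, nat_lit 10), (nat_lit 0, nat_lit 13, nat_lit 0), (nat_lit 0, nat_lit 16, nat_lit 0), (nat_lit 0, nat_lit 15, nat_lit 0), (nat_lit 0, nat_lit 18, nat_lit 0), (nat_lit 0, nat_lit 19, nat_lit 13), (nat_lit 0, nat_lit 18, nat_lit 0), (nat_lit 0, nat_lit 21, nat_lit 0), (nat_lit 0, nat_lit 20, nat_lit 14), (nat_lit 0, nat_lit 23, nat_lit 0), (nat_lit 0, nat_lit 24, nat_lit 0), (nat_lit 0, nat_lit 25, nat_lit 8), (nat_lit 0, nat_lit 24, nat_lit 0), (nat_lit 0, nat_lit 27, nat_lit 0), (nat_lit 0, nat_lit 26, nat_lit 0), (nat_lit 0, nat_lit 29, nat_lit 0), (nat_lit 0, nat_lit 28, nat_lit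 0), (nat_lit 0, nat_lit 31, nat_lit 0), (nat_lit 0, nat_lit 32, nat_lit 32), (nat_lit 0, nat_lit 31, nat_lit 0), (nat_lit 0, nat_lit 34, nat_lit 0), (nat_lit 0, nat_lit 33, nat_lit 0), (nat_lit 0, nat_lit 36, nat_lit 0), (nat_lit 0, nat_lit 35, nat_lit 0), (nat_lit 0, nat_lit 38, nat_lit 0), (nat_lit 0, nat_lit 37, nat_lit 0), (nat_lit 0, nat_lit 40, nat_lit 0)]⟩

def rr_P1_T : List Nat := [nat_lit 0x3a1796c622f4ba3c1ba99a410d1b1d1c8cf7955dad71a345adf03232724ad444af61380f097928190994]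
def rr_P1_prog : List (Nat × Nat × Nat) := []
def rr_P1_s0 : Nat := nat_lit 0x3a1796c622f4ba3c1ba99a410d1b1d1c8cf7955dad71a345adf03232724ad444af61380f097928190994
noncomputable def rr_P1_lev0 : Core.Lev := Core.mkLev rr_n rr_w rr_mask rr_L rr_maskL rr_idc (nat_lit 0) [rr_P1_s0] [(nat_lit 20, rr_P1_s0, nat_lit 0), (nat_lit 50, rr_P1_s0, nat_lit 20), (nat_lit 34, rr_P1_s0, nat_lit 50), (nat_lit 8, rr_P1_s0, nat_lit 34), (nat_lit 15, rr_P1_s0, nat_lit 8), (nat_lit 53, rr_P1_s0, nat_lit 15), (nat_lit 30, rr_P1_s0, nat_lit 53), (nat_lit 21, rr_P1_s0, nat_lit 30)]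
noncomputable def rr_P1_levels : List Core.Lev := [rr_P1_lev0]

noncomputable def rr_P1_cert : Simple.SylCert := ⟨nat_lit 3, nat_lit 9, rr_P1_T, rr_P1_prog, rr_P1_levels, [nat_lit 0xdf6d74cf2c70beeb6caeaa689e69648e28607de75c6da6585d65544d24503ce34c2ca2481c61440c2040, nat_lit 0x3a1796c622f4ba3c1ba99a410d1b1d1c8cf7955dad71a345adf03232724ad444af61380f097928190994, nat_lit 0x13355f2c86168c7d1c64da661896f608fc4eb00870b5a4a4aa5522bc38137a89ee14cdf542b7415ca472, nat_lit 0x4b52c1759250907f04a7a49af7b7329e628732c56d1a0f635b88f8d73af02618776e1154d9851a8c808, nat_lit 0x998c9b91e76c40a9749c3a60a8ec314d5141b622df59a1a149c2351eb12e5115c2da3a0030dcc966fdcf, nat_lit 0x26422dd8085c4cc6df197a4e368598bd4751d0f16c95aaf10f0d554190478a0a8acc29b2ba72f74a311e, nat_lit 0x81d3f0854ced32f7255eba444817c5bb2d895b591bb1aa8b1b478028d982237653c504628c360e9c7a15], [(nat_lit 0xa3102560f15f1c25ad352a515e07214352c46d4cf4c1a9dd66cc88b86dcc5410e392f39e2aada6ad3262,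 nat_lit 0xdf6d74cf2c70beeb6caeaa689e69648e28607de75c6da6585d65544d24503ce34c2ca2481c61440c2040, nat_lit 1, nat_lit 0xa3102560f15f1c25ad352a515e07214352c46d4cf4c1a9dd66cc88b86dcc5410e392f39e2aada6ad3262), (nat_lit 0x44589c755d9b293b160c6a77644d0b300926c086257da5f39ed3de0aaa23c89ad0847054bd2c6036e3b5, nat_lit 0xd4cdd728142b764a92c2d6a29549ee1684de0e0bd9369707d0626686c03138f6f60b35446168c87cbc91, nat_lit 1, nat_lit 0xa3102560f15f1c25ad352a515e07214352c46d4cf4c1a9dd66cc88b86dcc5410e392f39e2aada6ad3262)], [(nat_lit 1, nat_lit 1, nat_lit 0), (nat_lit 0, nat_lit 2, nat_lit 0), (nat_lit 0, nat_lit 1, nat_lit 1), (nat_lit 1, nat_lit 3, nat_lit 0), (nat_lit 0, nat_lit 0, nat_lit 1), (nat_lit 0, nat_lit 4, nat_lit 0)]⟩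

def rr_P2_T : List Nat := [nat_lit 0x6f56578cb23149e58d08387302a989690b913d595f74a9c4c014dc16cbceaed320d18db2894a68dc61e4]
def rr_P2_prog : List (Nat × Nat × Nat) := []
def rr_P2_s0 : Nat := nat_lit 0x6f56578cb23149e58d08387302a989690b913d595f74a9c4c014dc16cbceaed320d18db2894a68dc61e4
noncomputable def rr_P2_lev0 : Core.Lev := Core.mkLev rr_n rr_w rr_mask rr_L rr_maskL rr_idc (nat_lit 0) [rr_P2_s0] [(nat_lit 36, rr_P2_s0, nat_lit 0), (nat_lit 9, rr_P2_s0, nat_lit 36), (nat_lit 54, rr_P2_s0, nat_lit 9), (nat_lit 53, rr_P2_s0, nat_lit 54), (nat_lit 25, rr_P2_s0, nat_lit 53), (nat_lit 39, rr_P2_s0, nat_lit 25)]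
noncomputable def rr_P2_levels : List Core.Lev := [rr_P2_lev0]

noncomputable def rr_P2_cert : Simple.SylCert := ⟨nat_lit 7, nat_lit 7, rr_P2_T, rr_P2_prog, rr_P2_levels, [nat_lit 0xdf6d74cf2c70beeb6caeaa689e69648e28607de75c6da6585d65544d24503ce34c2ca2481c61440c2040], [(nat_lit 0x6f56578cb23149e58d08387302a989690b913d595f74a9c4c014dc16cbceaed320d18db2894a68dc61e4, nat_lit 0xdf6d74cf2c70beeb6caeaa689e69648e28607de75c6da6585d65544d24503ce34c2ca2481c61440c2040, nat_lit 1, nat_lit 0x6f56578cb23149e58d08387302a989690b913d595f74a9c4c014dc16cbceaed320d18db2894a68dc61e4), (nat_lit 0x7599f06b4c88b1504c1b7ba3903ab628e7afad398f958028c4715fa4d4ad0968115c4d4b41c8736d4889, nat_lit 0x7d08a056fb0dc9a931aab6130421ad7b52b4de351b72e1e9300cdda082f60c9c174613926651053e69d6, nat_lit 3, nat_lit 0x6f56578cb23149e58d08387302a989690b913d595f74a9c4c014dc16cbceaed320d18db2894a68dc61e4),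 (nat_lit 0x9670312972f23531e051b79a2770f562d552085aab984933222a4f84cb1618146fc2867439fba375c436, nat_lit 0x7d08a056fb0dc9a931aab6130421ad7b52b4de351b72e1e9300cdda082f60c9c174613926651053e69d6, nat_lit 2, nat_lit 0x6f56578cb23149e58d08387302a989690b913d595f74a9c4c014dc16cbceaed320d18db2894a68dc61e4), (nat_lit 0x980908630d0b30589171d54ad9bdd91164ec1a90c2aa8263c9086bba0341507bd2c739d7b4f79a95f3b5, nat_lit 0xdf6d74cf2c70beeb6caeaa689e69648e28607de75c6da6585d65544d24503ce34c2ca2481c61440c2040, nat_lit 2, nat_lit 0x6f56578cb23149e58d08387302a989690b913d595f74a9c4c014dc16cbceaed320d18db2894a68dc61e4), (nat_lit 0xaa42721315f482942f7e54d8d5d6e7a0114d521dc60f3d9a2ceb827913077224ac2230305ab54a98fb59, nat_lit 0xdf6d74cf2c70beeb6caeaa689e69648e28607de75c6da6585d65544d24503ce34c2ca2481c61440c2040, nat_lit 3, nat_lit 0x6f56578cb23149e58d08387302a989690b913d595f74a9c4c014dc16cbceaed320d18db2894a68dc61e4),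 (nat_lit 0xc9d8ba08c174613923e6144665740cc7a4c72e6d4de3d4ad2d78656f8227d0b0dc9a9310424d8aab5a7, nat_lit 0x7d08a056fb0dc9a931aab6130421ad7b52b4de351b72e1e9300cdda082f60c9c174613926651053e69d6, nat_lit 1, nat_lit 0x6f56578cb23149e58d08387302a989690b913d595f74a9c4c014dc16cbceaed320d18db2894a68dc61e4)], [(nat_lit 1, nat_lit 1, nat_lit 0), (nat_lit 0, nat_lit 2, nat_lit 0), (nat_lit 1, nat_lit 2, nat_lit 0), (nat_lit 0, nat_lit 2, nat_lit 0), (nat_lit 0, nat_lit 3, nat_lit 0), (nat_lit 0, nat_lit 2, nat_lit 0), (nat_lit 0, nat_lit 5, nat_lit 0), (nat_lit 0, nat_lit 4, nat_lit 0)]⟩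

noncomputable def rr_reps : List Simple.RepCert := [rr_R0_cert, rr_R1_cert, rr_R2_cert]
noncomputable def rr_syls : List Simple.SylCert := [rr_P0_cert, rr_P1_cert, rr_P2_cert]

set_option maxRecDepth 1000000 in
theorem rr_G_ok : Core.checkAll rr_n rr_w rr_mask rr_L rr_maskL rr_idc rr_G_T rr_G_prog rr_G_levels = true := by decide +kernel

theorem rr_order : Core.orderC rr_G_levels = 504 := by decide +kernel

set_option maxRecDepth 1000000 in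
theorem rr_reps_ok : Core.allL (Simple.repCheck rr_n rr_w rr_mask rr_L rr_maskL rr_idc rr_G_T rr_G_levels 504) rr_reps = true := by decide +kernel

set_option maxRecDepth 1000000 in
theorem rr_syls_ok : Core.allL (Simple.sylCheck rr_n rr_w rr_mask rr_L rr_maskL rr_idc rr_G_T rr_G_levels 504 (rr_reps.map (·.r))) rr_syls = true := by decide +kernel

theorem rr_prod : (rr_syls.map (·.pk)).prod = 504 := by decide +kernel

def rr_P_T : List Nat := [nat_lit 0xdf6d74cf2c70beeb6caeaa689e69648e28607de75c6da6585d65544d24503ce34c2ca2481c61440c2040, nat_lit 0xdf6d74cf2c70beeb6caeaa689e69648e28607de75c6da6585d65544d24503ce34c2ca2481c61440c2040, nat_lit 0xbe502840852a59b3351c4c833ed4ee26115a48d75e911c6b3b77d9d958062c17269e32a96338b0d025ec, nat_lit 0xdb5df3cb4c2fc6db2eaa9ae79a892396182279d7da71b5d961459545348e40f2cd308289147182103040, nat_lit 0x593b031a9644de49806302342ccd9b28589155c74dba050706f4b195f6b39d77ad3c98f2ad086aa023b5,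 nat_lit 0xd77db2d33bf1c2cbada6baa6a278e59208a175f79b69c6176555164914cf39030b34920a1851c3084040, nat_lit 0x6e82ad48e4169304c97375cc6250c4829c8050b74faacccd8aec46d19d55ae19f61d168179f22f982163, nat_lit 0xc70bf7db5d33ca89e6badb2baa97de7659238a181961759551c6da40f38d30b4d244718510308a248040, nat_lit 0x9038cc5411b7baad8a7af3a6ad3d306b222c66774b13541c85b533a3101f1c53e5620457352a56b42889, nat_lit 0xc2fc76d77cf2d279a8b6cbaaa6b79d7e48e586089765851655a71b3903cb34c4534851c60840c8289040, nat_lit 0xbb42667d7cef6c496335606d1f6a2a448a75c4f767c0019e1646500d4b126222d3ada80e715cb730284a, nat_lit 0xbf1c35df6cb4ce6a27b2eb69aea75f7a39648228585d955459b69c3ce40c2cd4914c61470c210920a040, nat_lit 0xa8c45366156e116d1a3db8b63439af0173a318776bdc94a7a7041fb732b17326287b5b052d4064942220, nat_lit 0xd33cb1c2fdf6d6baa9a279aeb6c8a181f79d9648d655471b69961734c2d349140f3840c2289207185040, nat_lit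 0x126836c457dbc37a112e4865734b56b0e049cd8747bca54fcaa1923108d4788ac3340d629d95ee4c2a5a, nat_lit 0xcf2d30bf1db5deaa6b9e6a2db2e86089e75f92395459569c6d76582cd3114d23903c210320a2451c6040, nat_lit 0xc2d6a55224a4aaf0e09ee1537a8337d415ca42b7585a37cb204cd59862593691f472c0213f139bd82c91, nat_lit 0xcb4cefc70d77da9aea9a89ecbad82285d7de8e59155166da7185d930b3524533ce403084248286147040, nat_lit 0x896c6e2f478e869a994410db8f0dc8cf69551ec740c9f71ab45acdbd84a724cd4428642880f4d7902994, nat_lit 0x79d7e5923822874cf2bf1c36d77b2eb6aa6ba2798c2cd4d244e40f1c614210324829a71b617656554040, nat_lit 0x87751b9e8341172131817d2426abe94254df63576c2127913221dc5ab54f2a60308f318368bd8eb82b59, nat_lit 0x75f7a48e58a1833cb4c70bf5df6badb29aea9e6a0d30b45348f39014718308428921b69c6585d4595040, nat_lit 0x16f6643c3717888c1468ea2e2845b2193d92ac0775a553609a161edc77cb8edb2a250cf44679416c2331, nat_lit 0x7de7639648608b2d33c2fc77db5b6cbabaa99a89cb34c4914d03ce1851c40c220a25c6da5d9615516040,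 nat_lit 0xc9b1aa60c9c520ebd0022b446b7917543d1434a7490592f5da978fb9cc6b4658d68127e6b07a21c024f3, nat_lit 0x82285e75f9648f6d77d33cafc70a279acbadaa9ad34913903cc2cd0840c920a1c61585d959551a71b040, nat_lit 0x224cc4ae63e2a41586b2133046fb8e7f4a1972374a5f19c097234b6de5078132776954add580c5a82d90, nat_lit 0x8a181d7de923975df6cf2d31c2f9e6a2eb6ca6ba914d23ce40d30b0c210a24814719961751655b69c040, nat_lit 0xa6e4301ed2e1c97df3d459aa8166c14a80f17897633943ec4c872790d6586b62af45f54c02bd22102946, nat_lit 0x86089f79d8e5937db5cb4cf0bf19a89edb2eaeaa5245340f38b34c1030882891851d765855459c6da040, nat_lit 0x444af725ae95c5b9f272d96d64c2152d3333e07518906230ce9c7a8b19e03469bb3165328d988dc2a15, nat_lit 0x9648e08a179d7efc70db5df4cf2aa9ae89e6b2eb4e40f30b3534912482871850840d655469c6d85d9040, nat_lit 0x5f05567931f23a26d228897702ea8564c9902da760846ac9d013d8127ccdb28464d54c768dcb69bc20df, nat_lit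 0x92396286075f7b1c2fd77db3cb4a6baa79a8badb0f39034c2d14d22892051c60c21145956da719617040, nat_lit 0x3aa7f73766080619158e94efb1b122c66b469d175a1731caa172ebc0f41cd4382e01952525e332582d12, nat_lit 0x8e59218227de770bf1df6d72d33aeaa66a27b6cb903ce2cd31245320a24614710309551671b697658040, nat_lit 0xd323c16848d3a0c867536a977e222dae4b8dd4675099c2b1583b09a407914b7cc55581f06606e5382bcb, nat_lit 0xaeaa679a8b2eb5d7de9648e1822db5df2d33c70bc71850c210828951655c6da6176524533903cd30b040, nat_lit 0xa082d74702760e614f66510e4a1a4c1ee6dc033746b5e8d4df4d4acac36056f4227eb62ac5a9130425a7, nat_lit 0xaa9ae6a27badb1f79d9239608a1d77db4cf2c2fc451c610308920a55459a71b6585d34913ce40b34c040, nat_lit 0xe99ce82a2a5d2d88bc53c01545ca661b91eb1077330d259be802323571a7d61a1487ac4511bb65c2dcf, nat_lit 0xa6baa89e6b6cb9e75f8e5922860df6d73cb4bf1c061470840ca24859551b69c5d96114d240f38c2cd040, nat_lit 0x997621037443b53a47434585c483a536a10b255752da76b390c8e004a3ec52e7f265e72f1b5c288826eb,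 nat_lit 0xb2eb6baa99e6a2182275f7a5923c70bf6d77cb4cc308420a24718571b6985d951654e40f34c2d2453040, nat_lit 0xb4eac5b2f834336c981a8de2529053704c2729f75594f450ba625a5e32f565b488c4d796cc0a83842907, nat_lit 0xbadb2aa6b9a89e08a17de7648e5c2fc75df6d33c840c22482851c669c6d961755458f3902cd313491040, nat_lit 0x3011e2d566a89a522bcc3be16725f67b0a8f8d275f4cb8066ed2913899c0c6456951c37742c134142b98, nat_lit 0xb6cba9aeaa279a286079d7e3964bf1c37db5cf2d021032892061476da7176585955103ce30b3514d2040, nat_lit 0xd857a92aeb0c94305c4a6932cce8a82d6deb819754d0701fa9347585a623404c5718f9db549bed202c0d, nat_lit 0x9e6a2cbadaeaa6592386089d7decb4cf1c2fdb5dc82891c614308461765459571b68d30b4914ce40f040, nat_lit 0x9623728dbd664f45de56db884018439f7bc76b1759a18b12136800151ac91b050eccb3e47ca58ca42a9c, nat_lit 0x9a89eeb6caa9ae48e582285f79dd33cb0bf1d77d8920a1471840c26585d551669c6cb34c4d244f390040, nat_lit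 0x4e170826402dda838d7cc6e91971743ef5984547710ebd55c256ac8a01cacea6414272ee4a3de6c8211e, nat_lit 0xa279adb2ea6baa39648a181e75fcf2d2fc70df6d4a2481851c21035d96165546da70c2cd4534903ce040]
def rr_P_prog : List (Nat × Nat × Nat) := [(nat_lit 1, nat_lit 51, nat_lit 0), (nat_lit 1, nat_lit 41, nat_lit 0), (nat_lit 1, nat_lit 34, nat_lit 0), (nat_lit 0, nat_lit 41, nat_lit 48), (nat_lit 0, nat_lit 0, nat_lit 34), (nat_lit 0, nat_lit 0, nat_lit 20), (nat_lit 0, nat_lit 0, nat_lit 29), (nat_lit 0, nat_lit 0, nat_lit 20), (nat_lit 0, nat_lit 0, nat_lit 24), (nat_lit 0, nat_lit 0, nat_lit 58), (nat_lit 0, nat_lit 0, nat_lit 25), (nat_lit 0, nat_lit 0, nat_lit 64), (nat_lit 0, nat_lit 0, nat_lit 12), (nat_lit 0, nat_lit 0, nat_lit 36), (nat_lit 0, nat_lit 13, nat_lit 11), (nat_lit 0, nat_lit 0, nat_lit 1), (nat_lit 0, nat_lit 53, nat_lit 55), (nat_lit 0, nat_lit 0, nat_lit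 58), (nat_lit 0, nat_lit 0, nat_lit 26), (nat_lit 0, nat_lit 0, nat_lit 42), (nat_lit 0, nat_lit 0, nat_lit 39), (nat_lit 0, nat_lit 0, nat_lit 21), (nat_lit 0, nat_lit 0, nat_lit 40), (nat_lit 0, nat_lit 0, nat_lit 46), (nat_lit 0, nat_lit 0, nat_lit 52), (nat_lit 0, nat_lit 0, nat_lit 38), (nat_lit 0, nat_lit 0, nat_lit 70), (nat_lit 0, nat_lit 26, nat_lit 25), (nat_lit 0, nat_lit 0, nat_lit 1)]
def rr_P_s0 : Nat := nat_lit 0xbe502840852a59b3351c4c833ed4ee26115a48d75e911c6b3b77d9d958062c17269e32a96338b0d025ec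
def rr_P_s1 : Nat := nat_lit 0xaa9ae6a27badb1f79d9239608a1d77db4cf2c2fc451c610308920a55459a71b6585d34913ce40b34c040
def rr_P_s2 : Nat := nat_lit 0xb6cba9aeaa279a286079d7e3964bf1c37db5cf2d021032892061476da7176585955103ce30b3514d2040
noncomputable def rr_P_lev0 : Core.Lev := Core.mkLev rr_n rr_w rr_mask rr_L rr_maskL rr_idc (nat_lit 0) [rr_P_s1, rr_P_s2, rr_P_s0] [(nat_lit 44, rr_P_s0, nat_lit 0), (nat_lit 29, rr_P_s1, nat_lit 44), (nat_lit 32, rr_P_s2, nat_lit 44), (nat_lit 53, rr_P_s0, nat_lit 44), (nat_lit 49, rr_P_s1, nat_lit 29), (nat_lit 52, rr_P_s2, nat_lit 29), (nat_lit 50, rr_P_s1, nat_lit 32), (nat_lit 26, rr_P_s0, nat_lit 32), (nat_lit 43, rr_P_s1, nat_lit 53), (nat_lit 46, rr_P_s2, nat_lit 53), (nat_lit 40, rr_P_s2, nat_lit 49), (nat_lit 20, rr_P_s0, nat_lit 49), (nat_lit 38, rr_P_s1, nat_lit 52), (nat_lit 41, rr_P_s2, nat_lit 52), (nat_lit 39, rr_P_s1,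 nat_lit 50), (nat_lit 42, rr_P_s2, nat_lit 50), (nat_lit 8, rr_P_s0, nat_lit 50), (nat_lit 6, rr_P_s1, nat_lit 26), (nat_lit 3, rr_P_s2, nat_lit 26), (nat_lit 17, rr_P_s0, nat_lit 26), (nat_lit 36, rr_P_s1, nat_lit 43), (nat_lit 30, rr_P_s2, nat_lit 43), (nat_lit 7, rr_P_s0, nat_lit 43), (nat_lit 31, rr_P_s1, nat_lit 46), (nat_lit 34, rr_P_s2, nat_lit 46), (nat_lit 27, rr_P_s0, nat_lit 46), (nat_lit 35, rr_P_s2, nat_lit 40), (nat_lit 10, rr_P_s1, nat_lit 20), (nat_lit 25, rr_P_s0, nat_lit 20), (nat_lit 33, rr_P_s1, nat_lit 38), (nat_lit 45, rr_P_s0, nat_lit 38), (nat_lit 37, rr_P_s1, nat_lit 41), (nat_lit 15, rr_P_s0, nat_lit 39), (nat_lit 4, rr_P_s0, nat_lit 42), (nat_lit 14, rr_P_s2, nat_lit 8), (nat_lit 11, rr_P_s2, nat_lit 6), (nat_lit 51, rr_P_s0, nat_lit 6), (nat_lit 13, rr_P_s1, nat_lit 3), (nat_lit 19, rr_P_s2, nat_lit 3), (nat_lit 22, rr_P_s1, nat_lit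 17), (nat_lit 28, rr_P_s2, nat_lit 17), (nat_lit 55, rr_P_s1, nat_lit 36), (nat_lit 47, rr_P_s1, nat_lit 30), (nat_lit 12, rr_P_s2, nat_lit 7), (nat_lit 24, rr_P_s0, nat_lit 7), (nat_lit 48, rr_P_s1, nat_lit 31), (nat_lit 18, rr_P_s0, nat_lit 31), (nat_lit 54, rr_P_s1, nat_lit 35), (nat_lit 9, rr_P_s0, nat_lit 35), (nat_lit 16, rr_P_s2, nat_lit 10), (nat_lit 5, rr_P_s0, nat_lit 33), (nat_lit 1, rr_P_s0, nat_lit 14), (nat_lit 23, rr_P_s1, nat_lit 11), (nat_lit 21, rr_P_s1, nat_lit 19), (nat_lit 2, rr_P_s2, nat_lit 28)]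
noncomputable def rr_P_lev1 : Core.Lev := Core.mkLev rr_n rr_w rr_mask rr_L rr_maskL rr_idc (nat_lit 2) [rr_P_s1, rr_P_s2] [(nat_lit 12, rr_P_s1, nat_lit 2), (nat_lit 18, rr_P_s2, nat_lit 2), (nat_lit 24, rr_P_s1, nat_lit 12), (nat_lit 21, rr_P_s2, nat_lit 12), (nat_lit 20, rr_P_s1, nat_lit 18), (nat_lit 26, rr_P_s2, nat_lit 18), (nat_lit 3, rr_P_s1, nat_lit 24), (nat_lit 9, rr_P_s2, nat_lit 24), (nat_lit 8, rr_P_s1, nat_lit 21), (nat_lit 5, rr_P_s2, nat_lit 21), (nat_lit 10, rr_P_s1, nat_lit 20), (nat_lit 7, rr_P_s2, nat_lit 20), (nat_lit 6, rr_P_s1, nat_lit 26), (nat_lit 13, rr_P_s1, nat_lit 3), (nat_lit 19, rr_P_s2, nat_lit 3), (nat_lit 15, rr_P_s2, nat_lit 9), (nat_lit 17, rr_P_s1, nat_lit 8), (nat_lit 14, rr_P_s2, nat_lit 8), (nat_lit 16, rr_P_s1, nat_lit 5), (nat_lit 11, rr_P_s2, nat_lit 6), (nat_lit 25, rr_P_s1, nat_lit 13), (nat_lit 22, rr_P_s2, nat_lit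 13), (nat_lit 27, rr_P_s2, nat_lit 19), (nat_lit 28, rr_P_s1, nat_lit 15), (nat_lit 23, rr_P_s2, nat_lit 16), (nat_lit 4, rr_P_s1, nat_lit 25)]
noncomputable def rr_P_levels : List Core.Lev := [rr_P_lev0, rr_P_lev1]

def rr_tab_0_0 : List (ℕ × ℕ × ℕ) := []
def rr_tab_0_1 : List (ℕ × ℕ × ℕ) := [(nat_lit 2, nat_lit 1, nat_lit 1), (nat_lit 0, nat_lit 13, nat_lit 2), (nat_lit 1, nat_lit 13, nat_lit 1), (nat_lit 2, nat_lit 13, nat_lit 2), (nat_lit 3, nat_lit 8, nat_lit 1), (nat_lit 4, nat_lit 10, nat_lit 1), (nat_lit 5, nat_lit 11, nat_lit 2), (nat_lit 7, nat_lit 12, nat_lit 2)]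
def rr_tab_0_2 : List (ℕ × ℕ × ℕ) := [(nat_lit 2, nat_lit 1, nat_lit 2), (nat_lit 0, nat_lit 13, nat_lit 1), (nat_lit 1, nat_lit 13, nat_lit 2), (nat_lit 2, nat_lit 13, nat_lit 2), (nat_lit 3, nat_lit 8, nat_lit 2), (nat_lit 4, nat_lit 10, nat_lit 2), (nat_lit 5, nat_lit 11, nat_lit 1), (nat_lit 7, nat_lit 12, nat_lit 1)]
def rr_tab_1_0 : List (ℕ × ℕ × ℕ) := []
def rr_tab_1_1 : List (ℕ × ℕ × ℕ) := [(nat_lit 3, nat_lit 1, nat_lit 2), (nat_lit 0, nat_lit 12, nat_lit 2), (nat_lit 1, nat_lit 12, nat_lit 2), (nat_lit 3, nat_lit 12, nat_lit 2), (nat_lit 2, nat_lit 7, nat_lit 1), (nat_lit 4, nat_lit 9, nat_lit 1), (nat_lit 6, nat_lit 11, nat_lit 2), (nat_lit 8, nat_lit 13, nat_lit 2)]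
def rr_tab_1_2 : List (ℕ × ℕ × ℕ) := [(nat_lit 3, nat_lit 1, nat_lit 1), (nat_lit 0, nat_lit 12, nat_lit 1), (nat_lit 1, nat_lit 12, nat_lit 1), (nat_lit 3, nat_lit 12, nat_lit 2), (nat_lit 2, nat_lit 7, nat_lit 2), (nat_lit 4, nat_lit 9, nat_lit 2), (nat_lit 6, nat_lit 11, nat_lit 1), (nat_lit 8, nat_lit 13, nat_lit 1)]
def rr_tab_2_0 : List (ℕ × ℕ × ℕ) := []
def rr_tab_2_1 : List (ℕ × ℕ × ℕ) := [(nat_lit 4, nat_lit 0, nat_lit 1), (nat_lit 0, nat_lit 11, nat_lit 1), (nat_lit 4, nat_lit 11, nat_lit 2), (nat_lit 5, nat_lit 9, nat_lit 1), (nat_lit 6, nat_lit 10, nat_lit 2), (nat_lit 9, nat_lit 12, nat_lit 2), (nat_lit 5, nat_lit 12, nat_lit 1), (nat_lit 2, nat_lit 12, nat_lit 1), (nat_lit 10, nat_lit 13, nat_lit 2), (nat_lit 6, nat_lit 13, nat_lit 2), (nat_lit 3, nat_lit 13, nat_lit 2)]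
def rr_tab_2_2 : List (ℕ × ℕ × ℕ) := [(nat_lit 4, nat_lit 0, nat_lit 2), (nat_lit 0, nat_lit 11, nat_lit 2), (nat_lit 4, nat_lit 11, nat_lit 2), (nat_lit 5, nat_lit 9, nat_lit 2), (nat_lit 6, nat_lit 10, nat_lit 1), (nat_lit 9, nat_lit 12, nat_lit 1), (nat_lit 5, nat_lit 12, nat_lit 1), (nat_lit 2, nat_lit 12, nat_lit 2), (nat_lit 10, nat_lit 13, nat_lit 1), (nat_lit 6, nat_lit 13, nat_lit 2), (nat_lit 3, nat_lit 13, nat_lit 1)]
def rr_tab_3_0 : List (ℕ × ℕ × ℕ) := []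
def rr_tab_3_1 : List (ℕ × ℕ × ℕ) := [(nat_lit 5, nat_lit 0, nat_lit 2), (nat_lit 5, nat_lit 1, nat_lit 1), (nat_lit 0, nat_lit 10, nat_lit 2), (nat_lit 5, nat_lit 10, nat_lit 2), (nat_lit 4, nat_lit 6, nat_lit 1), (nat_lit 6, nat_lit 8, nat_lit 1), (nat_lit 4, nat_lit 8, nat_lit 2), (nat_lit 2, nat_lit 8, nat_lit 1), (nat_lit 9, nat_lit 11, nat_lit 2), (nat_lit 11, nat_lit 13, nat_lit 1), (nat_lit 9, nat_lit 13, nat_lit 1), (nat_lit 7, nat_lit 13, nat_lit 2)]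
def rr_tab_3_2 : List (ℕ × ℕ × ℕ) := [(nat_lit 5, nat_lit 0, nat_lit 1), (nat_lit 5, nat_lit 1, nat_lit 2), (nat_lit 0, nat_lit 10, nat_lit 1), (nat_lit 5, nat_lit 10, nat_lit 2), (nat_lit 4, nat_lit 6, nat_lit 2), (nat_lit 6, nat_lit 8, nat_lit 2), (nat_lit 4, nat_lit 8, nat_lit 2), (nat_lit 2, nat_lit 8, nat_lit 2), (nat_lit 9, nat_lit 11, nat_lit 1), (nat_lit 11, nat_lit 13, nat_lit 2), (nat_lit 9, nat_lit 13, nat_lit 1), (nat_lit 7, nat_lit 13, nat_lit 1)]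
def rr_tab_4_0 : List (ℕ × ℕ × ℕ) := []
def rr_tab_4_1 : List (ℕ × ℕ × ℕ) := [(nat_lit 6, nat_lit 0, nat_lit 2), (nat_lit 6, nat_lit 1, nat_lit 2), (nat_lit 0, nat_lit 9, nat_lit 2), (nat_lit 6, nat_lit 9, nat_lit 2), (nat_lit 4, nat_lit 5, nat_lit 2), (nat_lit 5, nat_lit 7, nat_lit 1), (nat_lit 4, nat_lit 7, nat_lit 1), (nat_lit 3, nat_lit 7, nat_lit 2), (nat_lit 10, nat_lit 11, nat_lit 1), (nat_lit 11, nat_lit 12, nat_lit 1), (nat_lit 10, nat_lit 12, nat_lit 2), (nat_lit 8, nat_lit 12, nat_lit 1)]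
def rr_tab_4_2 : List (ℕ × ℕ × ℕ) := [(nat_lit 6, nat_lit 0, nat_lit 1), (nat_lit 6, nat_lit 1, nat_lit 1), (nat_lit 0, nat_lit 9, nat_lit 1), (nat_lit 6, nat_lit 9, nat_lit 2), (nat_lit 4, nat_lit 5, nat_lit 1), (nat_lit 5, nat_lit 7, nat_lit 2), (nat_lit 4, nat_lit 7, nat_lit 1), (nat_lit 3, nat_lit 7, nat_lit 1), (nat_lit 10, nat_lit 11, nat_lit 2), (nat_lit 11, nat_lit 12, nat_lit 2), (nat_lit 10, nat_lit 12, nat_lit 2), (nat_lit 8, nat_lit 12, nat_lit 2)]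
def rr_tab_5_0 : List (ℕ × ℕ × ℕ) := []
def rr_tab_5_1 : List (ℕ × ℕ × ℕ) := [(nat_lit 7, nat_lit 1, nat_lit 2), (nat_lit 1, nat_lit 8, nat_lit 2), (nat_lit 7, nat_lit 8, nat_lit 2), (nat_lit 2, nat_lit 3, nat_lit 2), (nat_lit 5, nat_lit 6, nat_lit 2), (nat_lit 9, nat_lit 10, nat_lit 1), (nat_lit 12, nat_lit 13, nat_lit 1)]
def rr_tab_5_2 : List (ℕ × ℕ × ℕ) := [(nat_lit 7, nat_lit 1, nat_lit 1), (nat_lit 1, nat_lit 8, nat_lit 1), (nat_lit 7, nat_lit 8, nat_lit 2), (nat_lit 2, nat_lit 3, nat_lit 1), (nat_lit 5, nat_lit 6, nat_lit 1), (nat_lit 9, nat_lit 10, nat_lit 2), (nat_lit 12, nat_lit 13, nat_lit 2)]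
def rr_tab_6_0 : List (ℕ × ℕ × ℕ) := []
def rr_tab_6_1 : List (ℕ × ℕ × ℕ) := [(nat_lit 8, nat_lit 1, nat_lit 1), (nat_lit 1, nat_lit 7, nat_lit 1), (nat_lit 8, nat_lit 7, nat_lit 2), (nat_lit 3, nat_lit 2, nat_lit 2), (nat_lit 6, nat_lit 5, nat_lit 2), (nat_lit 10, nat_lit 9, nat_lit 1), (nat_lit 13, nat_lit 12, nat_lit 1)]
def rr_tab_6_2 : List (ℕ × ℕ × ℕ) := [(nat_lit 8, nat_lit 1, nat_lit 2), (nat_lit 1, nat_lit 7, nat_lit 2), (nat_lit 8, nat_lit 7, nat_lit 2), (nat_lit 3, nat_lit 2, nat_lit 1), (nat_lit 6, nat_lit 5, nat_lit 1), (nat_lit 10, nat_lit 9, nat_lit 2), (nat_lit 13, nat_lit 12, nat_lit 2)]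
def rr_tab_7_0 : List (ℕ × ℕ × ℕ) := []
def rr_tab_7_1 : List (ℕ × ℕ × ℕ) := [(nat_lit 9, nat_lit 0, nat_lit 1), (nat_lit 9, nat_lit 1, nat_lit 1), (nat_lit 0, nat_lit 6, nat_lit 1), (nat_lit 9, nat_lit 6, nat_lit 2), (nat_lit 4, nat_lit 3, nat_lit 2), (nat_lit 5, nat_lit 3, nat_lit 2), (nat_lit 7, nat_lit 3, nat_lit 2), (nat_lit 5, nat_lit 4, nat_lit 2), (nat_lit 10, nat_lit 8, nat_lit 2), (nat_lit 11, nat_lit 8, nat_lit 1), (nat_lit 12, nat_lit 8, nat_lit 1), (nat_lit 11, nat_lit 10, nat_lit 1)]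
def rr_tab_7_2 : List (ℕ × ℕ × ℕ) := [(nat_lit 9, nat_lit 0, nat_lit 2), (nat_lit 9, nat_lit 1, nat_lit 2), (nat_lit 0, nat_lit 6, nat_lit 2), (nat_lit 9, nat_lit 6, nat_lit 2), (nat_lit 4, nat_lit 3, nat_lit 1), (nat_lit 5, nat_lit 3, nat_lit 2), (nat_lit 7, nat_lit 3, nat_lit 1), (nat_lit 5, nat_lit 4, nat_lit 1), (nat_lit 10, nat_lit 8, nat_lit 1), (nat_lit 11, nat_lit 8, nat_lit 1), (nat_lit 12, nat_lit 8, nat_lit 2), (nat_lit 11, nat_lit 10, nat_lit 2)]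
def rr_tab_8_0 : List (ℕ × ℕ × ℕ) := []
def rr_tab_8_1 : List (ℕ × ℕ × ℕ) := [(nat_lit 10, nat_lit 0, nat_lit 1), (nat_lit 10, nat_lit 1, nat_lit 2), (nat_lit 0, nat_lit 5, nat_lit 1), (nat_lit 10, nat_lit 5, nat_lit 2), (nat_lit 4, nat_lit 2, nat_lit 2), (nat_lit 6, nat_lit 2, nat_lit 1), (nat_lit 8, nat_lit 2, nat_lit 1), (nat_lit 6, nat_lit 4, nat_lit 1), (nat_lit 9, nat_lit 7, nat_lit 2), (nat_lit 11, nat_lit 7, nat_lit 2), (nat_lit 13, nat_lit 7, nat_lit 2), (nat_lit 11, nat_lit 9, nat_lit 2)]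
def rr_tab_8_2 : List (ℕ × ℕ × ℕ) := [(nat_lit 10, nat_lit 0, nat_lit 2), (nat_lit 10, nat_lit 1, nat_lit 1), (nat_lit 0, nat_lit 5, nat_lit 2), (nat_lit 10, nat_lit 5, nat_lit 2), (nat_lit 4, nat_lit 2, nat_lit 1), (nat_lit 6, nat_lit 2, nat_lit 1), (nat_lit 8, nat_lit 2, nat_lit 2), (nat_lit 6, nat_lit 4, nat_lit 2), (nat_lit 9, nat_lit 7, nat_lit 1), (nat_lit 11, nat_lit 7, nat_lit 2), (nat_lit 13, nat_lit 7, nat_lit 1), (nat_lit 11, nat_lit 9, nat_lit 1)]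
def rr_tab_9_0 : List (ℕ × ℕ × ℕ) := []
def rr_tab_9_1 : List (ℕ × ℕ × ℕ) := [(nat_lit 11, nat_lit 0, nat_lit 2), (nat_lit 0, nat_lit 4, nat_lit 2), (nat_lit 11, nat_lit 4, nat_lit 2), (nat_lit 5, nat_lit 2, nat_lit 1), (nat_lit 9, nat_lit 2, nat_lit 2), (nat_lit 12, nat_lit 2, nat_lit 1), (nat_lit 6, nat_lit 3, nat_lit 1), (nat_lit 10, nat_lit 3, nat_lit 1), (nat_lit 13, nat_lit 3, nat_lit 2), (nat_lit 9, nat_lit 5, nat_lit 1), (nat_lit 10, nat_lit 6, nat_lit 2)]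
def rr_tab_9_2 : List (ℕ × ℕ × ℕ) := [(nat_lit 11, nat_lit 0, nat_lit 1), (nat_lit 0, nat_lit 4, nat_lit 1), (nat_lit 11, nat_lit 4, nat_lit 2), (nat_lit 5, nat_lit 2, nat_lit 2), (nat_lit 9, nat_lit 2, nat_lit 2), (nat_lit 12, nat_lit 2, nat_lit 2), (nat_lit 6, nat_lit 3, nat_lit 2), (nat_lit 10, nat_lit 3, nat_lit 1), (nat_lit 13, nat_lit 3, nat_lit 1), (nat_lit 9, nat_lit 5, nat_lit 2), (nat_lit 10, nat_lit 6, nat_lit 1)]
def rr_tab_10_0 : List (ℕ × ℕ × ℕ) := []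
def rr_tab_10_1 : List (ℕ × ℕ × ℕ) := [(nat_lit 12, nat_lit 1, nat_lit 1), (nat_lit 0, nat_lit 3, nat_lit 1), (nat_lit 1, nat_lit 3, nat_lit 1), (nat_lit 12, nat_lit 3, nat_lit 2), (nat_lit 7, nat_lit 2, nat_lit 1), (nat_lit 9, nat_lit 4, nat_lit 1), (nat_lit 11, nat_lit 6, nat_lit 2), (nat_lit 13, nat_lit 8, nat_lit 2)]
def rr_tab_10_2 : List (ℕ × ℕ × ℕ) := [(nat_lit 12, nat_lit 1, nat_lit 2), (nat_lit 0, nat_lit 3, nat_lit 2), (nat_lit 1, nat_lit 3, nat_lit 2), (nat_lit 12, nat_lit 3, nat_lit 2), (nat_lit 7, nat_lit 2, nat_lit 2), (nat_lit 9, nat_lit 4, nat_lit 2), (nat_lit 11, nat_lit 6, nat_lit 1), (nat_lit 13, nat_lit 8, nat_lit 1)]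
def rr_tab_11_0 : List (ℕ × ℕ × ℕ) := []
def rr_tab_11_1 : List (ℕ × ℕ × ℕ) := [(nat_lit 13, nat_lit 1, nat_lit 2), (nat_lit 0, nat_lit 2, nat_lit 1), (nat_lit 1, nat_lit 2, nat_lit 2), (nat_lit 13, nat_lit 2, nat_lit 2), (nat_lit 8, nat_lit 3, nat_lit 1), (nat_lit 10, nat_lit 4, nat_lit 1), (nat_lit 11, nat_lit 5, nat_lit 2), (nat_lit 12, nat_lit 7, nat_lit 2)]
def rr_tab_11_2 : List (ℕ × ℕ × ℕ) := [(nat_lit 13, nat_lit 1, nat_lit 1), (nat_lit 0, nat_lit 2, nat_lit 2), (nat_lit 1, nat_lit 2, nat_lit 1), (nat_lit 13, nat_lit 2, nat_lit 2), (nat_lit 8, nat_lit 3, nat_lit 2), (nat_lit 10, nat_lit 4, nat_lit 2), (nat_lit 11, nat_lit 5, nat_lit 1), (nat_lit 12, nat_lit 7, nat_lit 1)]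
def rr_Om : ℕ := nat_lit 0xaa494aaa905562a880816a650a61a518696a496628a2a5894a161aaaa0280a19a059a1994986598804199618a5995506a29496a24926166591a545890280628a9616489961a8889521086aa92585aa52a84a91108201196810115980000006aa095169245a66869518668649a650a6526440826625a8a4619299a60140915a2496959a05925869914560aa91558685554404295292555515a46850140524a55a15495561a485622046692544569298446a12042022a64102269400000000000200000010
def rr_maskB : ℕ := nat_lit 0xfffffff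
def rr_ents : List Bridge.Ent := [([(nat_lit 7, nat_lit 0), (nat_lit 6, nat_lit 0), (nat_lit 8, nat_lit 0), (nat_lit 9, nat_lit 0), (nat_lit 10, nat_lit 0), (nat_lit 11, nat_lit 0)], [rr_tab_7_0, rr_tab_6_0, rr_tab_8_0, rr_tab_9_0, rr_tab_10_0, rr_tab_11_0], nat_lit 0xdf6d74cf2c70beeb6caeaa689e69648e28607de75c6da6585d65544d24503ce34c2ca2481c61440c2040),
  ([(nat_lit 4, nat_lit 0), (nat_lit 5, nat_lit 0), (nat_lit 3, nat_lit 0), (nat_lit 2, nat_lit 0), (nat_lit 1, nat_lit 0), (nat_lit 0, nat_lit 0)], [rr_tab_4_0, rr_tab_5_0, rr_tab_3_0, rr_tab_2_0, rr_tab_1_0, rr_tab_0_0], nat_lit 0xdf6d74cf2c70beeb6caeaa689e69648e28607de75c6da6585d65544d24503ce34c2ca2481c61440c2040),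
  ([(nat_lit 7, nat_lit 0), (nat_lit 6, nat_lit 0), (nat_lit 8, nat_lit 0), (nat_lit 9, nat_lit 1), (nat_lit 10, nat_lit 0), (nat_lit 11, nat_lit 1)], [rr_tab_7_0, rr_tab_6_0, rr_tab_8_0, rr_tab_9_1, rr_tab_10_0, rr_tab_11_1], nat_lit 0xbe502840852a59b3351c4c833ed4ee26115a48d75e911c6b3b77d9d958062c17269e32a96338b0d025ec),
  ([(nat_lit 4, nat_lit 0), (nat_lit 5, nat_lit 0), (nat_lit 3, nat_lit 0), (nat_lit 2, nat_lit 2), (nat_lit 1, nat_lit 0), (nat_lit 0, nat_lit 2)], [rr_tab_4_0, rr_tab_5_0, rr_tab_3_0, rr_tab_2_2, rr_tab_1_0, rr_tab_0_2], nat_lit 0xdb5df3cb4c2fc6db2eaa9ae79a892396182279d7da71b5d961459545348e40f2cd308289147182103040),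
  ([(nat_lit 7, nat_lit 0), (nat_lit 6, nat_lit 0), (nat_lit 8, nat_lit 0), (nat_lit 9, nat_lit 2), (nat_lit 10, nat_lit 0), (nat_lit 11, nat_lit 2)], [rr_tab_7_0, rr_tab_6_0, rr_tab_8_0, rr_tab_9_2, rr_tab_10_0, rr_tab_11_2], nat_lit 0x593b031a9644de49806302342ccd9b28589155c74dba050706f4b195f6b39d77ad3c98f2ad086aa023b5),
  ([(nat_lit 4, nat_lit 0), (nat_lit 5, nat_lit 0), (nat_lit 3, nat_lit 0), (nat_lit 2, nat_lit 1), (nat_lit 1, nat_lit 0), (nat_lit 0, nat_lit 1)], [rr_tab_4_0, rr_tab_5_0, rr_tab_3_0, rr_tab_2_1, rr_tab_1_0, rr_tab_0_1], nat_lit 0xd77db2d33bf1c2cbada6baa6a278e59208a175f79b69c6176555164914cf39030b34920a1851c3084040),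
  ([(nat_lit 7, nat_lit 0), (nat_lit 6, nat_lit 0), (nat_lit 8, nat_lit 1), (nat_lit 9, nat_lit 0), (nat_lit 10, nat_lit 1), (nat_lit 11, nat_lit 0)], [rr_tab_7_0, rr_tab_6_0, rr_tab_8_1, rr_tab_9_0, rr_tab_10_1, rr_tab_11_0], nat_lit 0x6e82ad48e4169304c97375cc6250c4829c8050b74faacccd8aec46d19d55ae19f61d168179f22f982163),
  ([(nat_lit 4, nat_lit 0), (nat_lit 5, nat_lit 0), (nat_lit 3, nat_lit 2), (nat_lit 2, nat_lit 0), (nat_lit 1, nat_lit 2), (nat_lit 0, nat_lit 0)], [rr_tab_4_0, rr_tab_5_0, rr_tab_3_2, rr_tab_2_0, rr_tab_1_2, rr_tab_0_0], nat_lit 0xc70bf7db5d33ca89e6badb2baa97de7659238a181961759551c6da40f38d30b4d244718510308a248040),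
  ([(nat_lit 7, nat_lit 0), (nat_lit 6, nat_lit 0), (nat_lit 8, nat_lit 1), (nat_lit 9, nat_lit 1), (nat_lit 10, nat_lit 1), (nat_lit 11, nat_lit 1)], [rr_tab_7_0, rr_tab_6_0, rr_tab_8_1, rr_tab_9_1, rr_tab_10_1, rr_tab_11_1], nat_lit 0x9038cc5411b7baad8a7af3a6ad3d306b222c66774b13541c85b533a3101f1c53e5620457352a56b42889),
  ([(nat_lit 4, nat_lit 0), (nat_lit 5, nat_lit 0), (nat_lit 3, nat_lit 2), (nat_lit 2, nat_lit 2), (nat_lit 1, nat_lit 2), (nat_lit 0, nat_lit 2)], [rr_tab_4_0, rr_tab_5_0, rr_tab_3_2, rr_tab_2_2, rr_tab_1_2, rr_tab_0_2], nat_lit 0xc2fc76d77cf2d279a8b6cbaaa6b79d7e48e586089765851655a71b3903cb34c4534851c60840c8289040),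
  ([(nat_lit 7, nat_lit 0), (nat_lit 6, nat_lit 0), (nat_lit 8, nat_lit 1), (nat_lit 9, nat_lit 2), (nat_lit 10, nat_lit 1), (nat_lit 11, nat_lit 2)], [rr_tab_7_0, rr_tab_6_0, rr_tab_8_1, rr_tab_9_2, rr_tab_10_1, rr_tab_11_2], nat_lit 0xbb42667d7cef6c496335606d1f6a2a448a75c4f767c0019e1646500d4b126222d3ada80e715cb730284a),
  ([(nat_lit 4, nat_lit 0), (nat_lit 5, nat_lit 0), (nat_lit 3, nat_lit 2), (nat_lit 2, nat_lit 1), (nat_lit 1, nat_lit 2), (nat_lit 0, nat_lit 1)], [rr_tab_4_0, rr_tab_5_0, rr_tab_3_2, rr_tab_2_1, rr_tab_1_2, rr_tab_0_1], nat_lit 0xbf1c35df6cb4ce6a27b2eb69aea75f7a39648228585d955459b69c3ce40c2cd4914c61470c210920a040),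
  ([(nat_lit 7, nat_lit 0), (nat_lit 6, nat_lit 0), (nat_lit 8, nat_lit 2), (nat_lit 9, nat_lit 0), (nat_lit 10, nat_lit 2), (nat_lit 11, nat_lit 0)], [rr_tab_7_0, rr_tab_6_0, rr_tab_8_2, rr_tab_9_0, rr_tab_10_2, rr_tab_11_0], nat_lit 0xa8c45366156e116d1a3db8b63439af0173a318776bdc94a7a7041fb732b17326287b5b052d4064942220),
  ([(nat_lit 4, nat_lit 0), (nat_lit 5, nat_lit 0), (nat_lit 3, nat_lit 1), (nat_lit 2, nat_lit 0), (nat_lit 1, nat_lit 1), (nat_lit 0, nat_lit 0)], [rr_tab_4_0, rr_tab_5_0, rr_tab_3_1, rr_tab_2_0, rr_tab_1_1, rr_tab_0_0], nat_lit 0xd33cb1c2fdf6d6baa9a279aeb6c8a181f79d9648d655471b69961734c2d349140f3840c2289207185040),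
  ([(nat_lit 7, nat_lit 0), (nat_lit 6, nat_lit 0), (nat_lit 8, nat_lit 2), (nat_lit 9, nat_lit 1), (nat_lit 10, nat_lit 2), (nat_lit 11, nat_lit 1)], [rr_tab_7_0, rr_tab_6_0, rr_tab_8_2, rr_tab_9_1, rr_tab_10_2, rr_tab_11_1], nat_lit 0x126836c457dbc37a112e4865734b56b0e049cd8747bca54fcaa1923108d4788ac3340d629d95ee4c2a5a),
  ([(nat_lit 4, nat_lit 0), (nat_lit 5, nat_lit 0), (nat_lit 3, nat_lit 1), (nat_lit 2, nat_lit 2), (nat_lit 1, nat_lit 1), (nat_lit 0, nat_lit 2)], [rr_tab_4_0, rr_tab_5_0, rr_tab_3_1, rr_tab_2_2, rr_tab_1_1, rr_tab_0_2], nat_lit 0xcf2d30bf1db5deaa6b9e6a2db2e86089e75f92395459569c6d76582cd3114d23903c210320a2451c6040),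
  ([(nat_lit 7, nat_lit 0), (nat_lit 6, nat_lit 0), (nat_lit 8, nat_lit 2), (nat_lit 9, nat_lit 2), (nat_lit 10, nat_lit 2), (nat_lit 11, nat_lit 2)], [rr_tab_7_0, rr_tab_6_0, rr_tab_8_2, rr_tab_9_2, rr_tab_10_2, rr_tab_11_2], nat_lit 0xc2d6a55224a4aaf0e09ee1537a8337d415ca42b7585a37cb204cd59862593691f472c0213f139bd82c91),
  ([(nat_lit 4, nat_lit 0), (nat_lit 5, nat_lit 0), (nat_lit 3, nat_lit 1), (nat_lit 2, nat_lit 1), (nat_lit 1, nat_lit 1), (nat_lit 0, nat_lit 1)], [rr_tab_4_0, rr_tab_5_0, rr_tab_3_1, rr_tab_2_1, rr_tab_1_1, rr_tab_0_1], nat_lit 0xcb4cefc70d77da9aea9a89ecbad82285d7de8e59155166da7185d930b3524533ce403084248286147040),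
  ([(nat_lit 7, nat_lit 1), (nat_lit 6, nat_lit 1), (nat_lit 8, nat_lit 1), (nat_lit 9, nat_lit 1), (nat_lit 10, nat_lit 0), (nat_lit 11, nat_lit 0)], [rr_tab_7_1, rr_tab_6_1, rr_tab_8_1, rr_tab_9_1, rr_tab_10_0, rr_tab_11_0], nat_lit 0x896c6e2f478e869a994410db8f0dc8cf69551ec740c9f71ab45acdbd84a724cd4428642880f4d7902994),
  ([(nat_lit 4, nat_lit 2), (nat_lit 5, nat_lit 2), (nat_lit 3, nat_lit 2), (nat_lit 2, nat_lit 2), (nat_lit 1, nat_lit 0), (nat_lit 0, nat_lit 0)], [rr_tab_4_2, rr_tab_5_2, rr_tab_3_2, rr_tab_2_2, rr_tab_1_0, rr_tab_0_0], nat_lit 0x79d7e5923822874cf2bf1c36d77b2eb6aa6ba2798c2cd4d244e40f1c614210324829a71b617656554040),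
  ([(nat_lit 7, nat_lit 1), (nat_lit 6, nat_lit 1), (nat_lit 8, nat_lit 1), (nat_lit 9, nat_lit 2), (nat_lit 10, nat_lit 0), (nat_lit 11, nat_lit 1)], [rr_tab_7_1, rr_tab_6_1, rr_tab_8_1, rr_tab_9_2, rr_tab_10_0, rr_tab_11_1], nat_lit 0x87751b9e8341172131817d2426abe94254df63576c2127913221dc5ab54f2a60308f318368bd8eb82b59),
  ([(nat_lit 4, nat_lit 2), (nat_lit 5, nat_lit 2), (nat_lit 3, nat_lit 2), (nat_lit 2, nat_lit 1), (nat_lit 1, nat_lit 0), (nat_lit 0, nat_lit 2)], [rr_tab_4_2, rr_tab_5_2, rr_tab_3_2, rr_tab_2_1, rr_tab_1_0, rr_tab_0_2], nat_lit 0x75f7a48e58a1833cb4c70bf5df6badb29aea9e6a0d30b45348f39014718308428921b69c6585d4595040),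
  ([(nat_lit 7, nat_lit 1), (nat_lit 6, nat_lit 1), (nat_lit 8, nat_lit 1), (nat_lit 9, nat_lit 0), (nat_lit 10, nat_lit 0), (nat_lit 11, nat_lit 2)], [rr_tab_7_1, rr_tab_6_1, rr_tab_8_1, rr_tab_9_0, rr_tab_10_0, rr_tab_11_2], nat_lit 0x16f6643c3717888c1468ea2e2845b2193d92ac0775a553609a161edc77cb8edb2a250cf44679416c2331),
  ([(nat_lit 4, nat_lit 2), (nat_lit 5, nat_lit 2), (nat_lit 3, nat_lit 2), (nat_lit 2, nat_lit 0), (nat_lit 1, nat_lit 0), (nat_lit 0, nat_lit 1)], [rr_tab_4_2, rr_tab_5_2, rr_tab_3_2, rr_tab_2_0, rr_tab_1_0, rr_tab_0_1], nat_lit 0x7de7639648608b2d33c2fc77db5b6cbabaa99a89cb34c4914d03ce1851c40c220a25c6da5d9615516040),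
  ([(nat_lit 7, nat_lit 1), (nat_lit 6, nat_lit 1), (nat_lit 8, nat_lit 2), (nat_lit 9, nat_lit 1), (nat_lit 10, nat_lit 1), (nat_lit 11, nat_lit 0)], [rr_tab_7_1, rr_tab_6_1, rr_tab_8_2, rr_tab_9_1, rr_tab_10_1, rr_tab_11_0], nat_lit 0xc9b1aa60c9c520ebd0022b446b7917543d1434a7490592f5da978fb9cc6b4658d68127e6b07a21c024f3),
  ([(nat_lit 4, nat_lit 2), (nat_lit 5, nat_lit 2), (nat_lit 3, nat_lit 1), (nat_lit 2, nat_lit 2), (nat_lit 1, nat_lit 2), (nat_lit 0, nat_lit 0)], [rr_tab_4_2, rr_tab_5_2, rr_tab_3_1, rr_tab_2_2, rr_tab_1_2, rr_tab_0_0], nat_lit 0x82285e75f9648f6d77d33cafc70a279acbadaa9ad34913903cc2cd0840c920a1c61585d959551a71b040),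
  ([(nat_lit 7, nat_lit 1), (nat_lit 6, nat_lit 1), (nat_lit 8, nat_lit 2), (nat_lit 9, nat_lit 2), (nat_lit 10, nat_lit 1), (nat_lit 11, nat_lit 1)], [rr_tab_7_1, rr_tab_6_1, rr_tab_8_2, rr_tab_9_2, rr_tab_10_1, rr_tab_11_1], nat_lit 0x224cc4ae63e2a41586b2133046fb8e7f4a1972374a5f19c097234b6de5078132776954add580c5a82d90),
  ([(nat_lit 4, nat_lit 2), (nat_lit 5, nat_lit 2), (nat_lit 3, nat_lit 1), (nat_lit 2, nat_lit 1), (nat_lit 1, nat_lit 2), (nat_lit 0, nat_lit 2)], [rr_tab_4_2, rr_tab_5_2, rr_tab_3_1, rr_tab_2_1, rr_tab_1_2, rr_tab_0_2], nat_lit 0x8a181d7de923975df6cf2d31c2f9e6a2eb6ca6ba914d23ce40d30b0c210a24814719961751655b69c040),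
  ([(nat_lit 7, nat_lit 1), (nat_lit 6, nat_lit 1), (nat_lit 8, nat_lit 2), (nat_lit 9, nat_lit 0), (nat_lit 10, nat_lit 1), (nat_lit 11, nat_lit 2)], [rr_tab_7_1, rr_tab_6_1, rr_tab_8_2, rr_tab_9_0, rr_tab_10_1, rr_tab_11_2], nat_lit 0xa6e4301ed2e1c97df3d459aa8166c14a80f17897633943ec4c872790d6586b62af45f54c02bd22102946),
  ([(nat_lit 4, nat_lit 2), (nat_lit 5, nat_lit 2), (nat_lit 3, nat_lit 1), (nat_lit 2, nat_lit 0), (nat_lit 1, nat_lit 2), (nat_lit 0, nat_lit 1)], [rr_tab_4_2, rr_tab_5_2, rr_tab_3_1, rr_tab_2_0, rr_tab_1_2, rr_tab_0_1], nat_lit 0x86089f79d8e5937db5cb4cf0bf19a89edb2eaeaa5245340f38b34c1030882891851d765855459c6da040),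
  ([(nat_lit 7, nat_lit 1), (nat_lit 6, nat_lit 1), (nat_lit 8, nat_lit 0), (nat_lit 9, nat_lit 1), (nat_lit 10, nat_lit 2), (nat_lit 11, nat_lit 0)], [rr_tab_7_1, rr_tab_6_1, rr_tab_8_0, rr_tab_9_1, rr_tab_10_2, rr_tab_11_0], nat_lit 0x444af725ae95c5b9f272d96d64c2152d3333e07518906230ce9c7a8b19e03469bb3165328d988dc2a15),
  ([(nat_lit 4, nat_lit 2), (nat_lit 5, nat_lit 2), (nat_lit 3, nat_lit 0), (nat_lit 2, nat_lit 2), (nat_lit 1, nat_lit 1), (nat_lit 0, nat_lit 0)], [rr_tab_4_2, rr_tab_5_2, rr_tab_3_0, rr_tab_2_2, rr_tab_1_1, rr_tab_0_0], nat_lit 0x9648e08a179d7efc70db5df4cf2aa9ae89e6b2eb4e40f30b3534912482871850840d655469c6d85d9040),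
  ([(nat_lit 7, nat_lit 1), (nat_lit 6, nat_lit 1), (nat_lit 8, nat_lit 0), (nat_lit 9, nat_lit 2), (nat_lit 10, nat_lit 2), (nat_lit 11, nat_lit 1)], [rr_tab_7_1, rr_tab_6_1, rr_tab_8_0, rr_tab_9_2, rr_tab_10_2, rr_tab_11_1], nat_lit 0x5f05567931f23a26d228897702ea8564c9902da760846ac9d013d8127ccdb28464d54c768dcb69bc20df),
  ([(nat_lit 4, nat_lit 2), (nat_lit 5, nat_lit 2), (nat_lit 3, nat_lit 0), (nat_lit 2, nat_lit 1), (nat_lit 1, nat_lit 1), (nat_lit 0, nat_lit 2)], [rr_tab_4_2, rr_tab_5_2, rr_tab_3_0, rr_tab_2_1, rr_tab_1_1, rr_tab_0_2], nat_lit 0x92396286075f7b1c2fd77db3cb4a6baa79a8badb0f39034c2d14d22892051c60c21145956da719617040),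
  ([(nat_lit 7, nat_lit 1), (nat_lit 6, nat_lit 1), (nat_lit 8, nat_lit 0), (nat_lit 9, nat_lit 0), (nat_lit 10, nat_lit 2), (nat_lit 11, nat_lit 2)], [rr_tab_7_1, rr_tab_6_1, rr_tab_8_0, rr_tab_9_0, rr_tab_10_2, rr_tab_11_2], nat_lit 0x3aa7f73766080619158e94efb1b122c66b469d175a1731caa172ebc0f41cd4382e01952525e332582d12),
  ([(nat_lit 4, nat_lit 2), (nat_lit 5, nat_lit 2), (nat_lit 3, nat_lit 0), (nat_lit 2, nat_lit 0), (nat_lit 1, nat_lit 1), (nat_lit 0, nat_lit 1)], [rr_tab_4_2, rr_tab_5_2, rr_tab_3_0, rr_tab_2_0, rr_tab_1_1, rr_tab_0_1], nat_lit 0x8e59218227de770bf1df6d72d33aeaa66a27b6cb903ce2cd31245320a24614710309551671b697658040),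
  ([(nat_lit 7, nat_lit 2), (nat_lit 6, nat_lit 2), (nat_lit 8, nat_lit 1), (nat_lit 9, nat_lit 2), (nat_lit 10, nat_lit 0), (nat_lit 11, nat_lit 0)], [rr_tab_7_2, rr_tab_6_2, rr_tab_8_1, rr_tab_9_2, rr_tab_10_0, rr_tab_11_0], nat_lit 0xd323c16848d3a0c867536a977e222dae4b8dd4675099c2b1583b09a407914b7cc55581f06606e5382bcb),
  ([(nat_lit 4, nat_lit 1), (nat_lit 5, nat_lit 1), (nat_lit 3, nat_lit 2), (nat_lit 2, nat_lit 1), (nat_lit 1, nat_lit 0), (nat_lit 0, nat_lit 0)], [rr_tab_4_1, rr_tab_5_1, rr_tab_3_2, rr_tab_2_1, rr_tab_1_0, rr_tab_0_0], nat_lit 0xaeaa679a8b2eb5d7de9648e1822db5df2d33c70bc71850c210828951655c6da6176524533903cd30b040),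
  ([(nat_lit 7, nat_lit 2), (nat_lit 6, nat_lit 2), (nat_lit 8, nat_lit 1), (nat_lit 9, nat_lit 0), (nat_lit 10, nat_lit 0), (nat_lit 11, nat_lit 1)], [rr_tab_7_2, rr_tab_6_2, rr_tab_8_1, rr_tab_9_0, rr_tab_10_0, rr_tab_11_1], nat_lit 0xa082d74702760e614f66510e4a1a4c1ee6dc033746b5e8d4df4d4acac36056f4227eb62ac5a9130425a7),
  ([(nat_lit 4, nat_lit 1), (nat_lit 5, nat_lit 1), (nat_lit 3, nat_lit 2), (nat_lit 2, nat_lit 0), (nat_lit 1, nat_lit 0), (nat_lit 0, nat_lit 2)], [rr_tab_4_1, rr_tab_5_1, rr_tab_3_2, rr_tab_2_0, rr_tab_1_0, rr_tab_0_2], nat_lit 0xaa9ae6a27badb1f79d9239608a1d77db4cf2c2fc451c610308920a55459a71b6585d34913ce40b34c040),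
  ([(nat_lit 7, nat_lit 2), (nat_lit 6, nat_lit 2), (nat_lit 8, nat_lit 1), (nat_lit 9, nat_lit 1), (nat_lit 10, nat_lit 0), (nat_lit 11, nat_lit 2)], [rr_tab_7_2, rr_tab_6_2, rr_tab_8_1, rr_tab_9_1, rr_tab_10_0, rr_tab_11_2], nat_lit 0xe99ce82a2a5d2d88bc53c01545ca661b91eb1077330d259be802323571a7d61a1487ac4511bb65c2dcf),
  ([(nat_lit 4, nat_lit 1), (nat_lit 5, nat_lit 1), (nat_lit 3, nat_lit 2), (nat_lit 2, nat_lit 2), (nat_lit 1, nat_lit 0), (nat_lit 0, nat_lit 1)], [rr_tab_4_1, rr_tab_5_1, rr_tab_3_2, rr_tab_2_2, rr_tab_1_0, rr_tab_0_1], nat_lit 0xa6baa89e6b6cb9e75f8e5922860df6d73cb4bf1c061470840ca24859551b69c5d96114d240f38c2cd040),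
  ([(nat_lit 7, nat_lit 2), (nat_lit 6, nat_lit 2), (nat_lit 8, nat_lit 2), (nat_lit 9, nat_lit 2), (nat_lit 10, nat_lit 1), (nat_lit 11, nat_lit 0)], [rr_tab_7_2, rr_tab_6_2, rr_tab_8_2, rr_tab_9_2, rr_tab_10_1, rr_tab_11_0], nat_lit 0x997621037443b53a47434585c483a536a10b255752da76b390c8e004a3ec52e7f265e72f1b5c288826eb),
  ([(nat_lit 4, nat_lit 1), (nat_lit 5, nat_lit 1), (nat_lit 3, nat_lit 1), (nat_lit 2, nat_lit 1), (nat_lit 1, nat_lit 2), (nat_lit 0, nat_lit 0)], [rr_tab_4_1, rr_tab_5_1, rr_tab_3_1, rr_tab_2_1, rr_tab_1_2, rr_tab_0_0], nat_lit 0xb2eb6baa99e6a2182275f7a5923c70bf6d77cb4cc308420a24718571b6985d951654e40f34c2d2453040),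
  ([(nat_lit 7, nat_lit 2), (nat_lit 6, nat_lit 2), (nat_lit 8, nat_lit 2), (nat_lit 9, nat_lit 0), (nat_lit 10, nat_lit 1), (nat_lit 11, nat_lit 1)], [rr_tab_7_2, rr_tab_6_2, rr_tab_8_2, rr_tab_9_0, rr_tab_10_1, rr_tab_11_1], nat_lit 0xb4eac5b2f834336c981a8de2529053704c2729f75594f450ba625a5e32f565b488c4d796cc0a83842907),
  ([(nat_lit 4, nat_lit 1), (nat_lit 5, nat_lit 1), (nat_lit 3, nat_lit 1), (nat_lit 2, nat_lit 0), (nat_lit 1, nat_lit 2), (nat_lit 0, nat_lit 2)], [rr_tab_4_1, rr_tab_5_1, rr_tab_3_1, rr_tab_2_0, rr_tab_1_2, rr_tab_0_2], nat_lit 0xbadb2aa6b9a89e08a17de7648e5c2fc75df6d33c840c22482851c669c6d961755458f3902cd313491040),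
  ([(nat_lit 7, nat_lit 2), (nat_lit 6, nat_lit 2), (nat_lit 8, nat_lit 2), (nat_lit 9, nat_lit 1), (nat_lit 10, nat_lit 1), (nat_lit 11, nat_lit 2)], [rr_tab_7_2, rr_tab_6_2, rr_tab_8_2, rr_tab_9_1, rr_tab_10_1, rr_tab_11_2], nat_lit 0x3011e2d566a89a522bcc3be16725f67b0a8f8d275f4cb8066ed2913899c0c6456951c37742c134142b98),
  ([(nat_lit 4, nat_lit 1), (nat_lit 5, nat_lit 1), (nat_lit 3, nat_lit 1), (nat_lit 2, nat_lit 2), (nat_lit 1, nat_lit 2), (nat_lit 0, nat_lit 1)], [rr_tab_4_1, rr_tab_5_1, rr_tab_3_1, rr_tab_2_2, rr_tab_1_2, rr_tab_0_1], nat_lit 0xb6cba9aeaa279a286079d7e3964bf1c37db5cf2d021032892061476da7176585955103ce30b3514d2040),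
  ([(nat_lit 7, nat_lit 2), (nat_lit 6, nat_lit 2), (nat_lit 8, nat_lit 0), (nat_lit 9, nat_lit 2), (nat_lit 10, nat_lit 2), (nat_lit 11, nat_lit 0)], [rr_tab_7_2, rr_tab_6_2, rr_tab_8_0, rr_tab_9_2, rr_tab_10_2, rr_tab_11_0], nat_lit 0xd857a92aeb0c94305c4a6932cce8a82d6deb819754d0701fa9347585a623404c5718f9db549bed202c0d),
  ([(nat_lit 4, nat_lit 1), (nat_lit 5, nat_lit 1), (nat_lit 3, nat_lit 0), (nat_lit 2, nat_lit 1), (nat_lit 1, nat_lit 1), (nat_lit 0, nat_lit 0)], [rr_tab_4_1, rr_tab_5_1, rr_tab_3_0, rr_tab_2_1, rr_tab_1_1, rr_tab_0_0], nat_lit 0x9e6a2cbadaeaa6592386089d7decb4cf1c2fdb5dc82891c614308461765459571b68d30b4914ce40f040),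
  ([(nat_lit 7, nat_lit 2), (nat_lit 6, nat_lit 2), (nat_lit 8, nat_lit 0), (nat_lit 9, nat_lit 0), (nat_lit 10, nat_lit 2), (nat_lit 11, nat_lit 1)], [rr_tab_7_2, rr_tab_6_2, rr_tab_8_0, rr_tab_9_0, rr_tab_10_2, rr_tab_11_1], nat_lit 0x9623728dbd664f45de56db884018439f7bc76b1759a18b12136800151ac91b050eccb3e47ca58ca42a9c),
  ([(nat_lit 4, nat_lit 1), (nat_lit 5, nat_lit 1), (nat_lit 3, nat_lit 0), (nat_lit 2, nat_lit 0), (nat_lit 1, nat_lit 1), (nat_lit 0, nat_lit 2)], [rr_tab_4_1, rr_tab_5_1, rr_tab_3_0, rr_tab_2_0, rr_tab_1_1, rr_tab_0_2], nat_lit 0x9a89eeb6caa9ae48e582285f79dd33cb0bf1d77d8920a1471840c26585d551669c6cb34c4d244f390040),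
  ([(nat_lit 7, nat_lit 2), (nat_lit 6, nat_lit 2), (nat_lit 8, nat_lit 0), (nat_lit 9, nat_lit 1), (nat_lit 10, nat_lit 2), (nat_lit 11, nat_lit 2)], [rr_tab_7_2, rr_tab_6_2, rr_tab_8_0, rr_tab_9_1, rr_tab_10_2, rr_tab_11_2], nat_lit 0x4e170826402dda838d7cc6e91971743ef5984547710ebd55c256ac8a01cacea6414272ee4a3de6c8211e),
  ([(nat_lit 4, nat_lit 1), (nat_lit 5, nat_lit 1), (nat_lit 3, nat_lit 0), (nat_lit 2, nat_lit 2), (nat_lit 1, nat_lit 1), (nat_lit 0, nat_lit 1)], [rr_tab_4_1, rr_tab_5_1, rr_tab_3_0, rr_tab_2_2, rr_tab_1_1, rr_tab_0_1], nat_lit 0xa279adb2ea6baa39648a181e75fcf2d2fc70df6d4a2481851c21035d96165546da70c2cd4534903ce040)]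
def rr_span : List (List (ℕ × ℕ)) := [[(nat_lit 4, nat_lit 2), (nat_lit 5, nat_lit 1), (nat_lit 7, nat_lit 1), (nat_lit 8, nat_lit 2), (nat_lit 11, nat_lit 1), (nat_lit 14, nat_lit 1), (nat_lit 17, nat_lit 1)],
  [(nat_lit 0, nat_lit 1), (nat_lit 2, nat_lit 1), (nat_lit 5, nat_lit 2), (nat_lit 7, nat_lit 1), (nat_lit 8, nat_lit 1), (nat_lit 9, nat_lit 1), (nat_lit 11, nat_lit 2), (nat_lit 17, nat_lit 1)],
  [(nat_lit 0, nat_lit 1)],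
  [(nat_lit 3, nat_lit 1), (nat_lit 4, nat_lit 1), (nat_lit 5, nat_lit 1), (nat_lit 6, nat_lit 2), (nat_lit 7, nat_lit 2), (nat_lit 8, nat_lit 2), (nat_lit 11, nat_lit 1), (nat_lit 14, nat_lit 1), (nat_lit 17, nat_lit 1)],
  [(nat_lit 2, nat_lit 2), (nat_lit 3, nat_lit 2), (nat_lit 4, nat_lit 2), (nat_lit 5, nat_lit 1), (nat_lit 6, nat_lit 1), (nat_lit 7, nat_lit 1)],
  [(nat_lit 2, nat_lit 2), (nat_lit 3, nat_lit 1), (nat_lit 5, nat_lit 2), (nat_lit 6, nat_lit 1), (nat_lit 8, nat_lit 2), (nat_lit 9, nat_lit 1)],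
  [(nat_lit 0, nat_lit 2), (nat_lit 2, nat_lit 2), (nat_lit 3, nat_lit 2), (nat_lit 4, nat_lit 2), (nat_lit 5, nat_lit 2), (nat_lit 6, nat_lit 2), (nat_lit 7, nat_lit 2)],
  [(nat_lit 0, nat_lit 1), (nat_lit 2, nat_lit 2), (nat_lit 3, nat_lit 1), (nat_lit 6, nat_lit 1), (nat_lit 7, nat_lit 2), (nat_lit 8, nat_lit 1), (nat_lit 9, nat_lit 2), (nat_lit 12, nat_lit 1), (nat_lit 14, nat_lit 1), (nat_lit 17, nat_lit 1)],
  [(nat_lit 0, nat_lit 1), (nat_lit 3, nat_lit 2), (nat_lit 6, nat_lit 2), (nat_lit 7, nat_lit 1), (nat_lit 8, nat_lit 2), (nat_lit 9, nat_lit 1), (nat_lit 11, nat_lit 2), (nat_lit 12, nat_lit 2), (nat_lit 14, nat_lit 2), (nat_lit 17, nat_lit 2), (nat_lit 20, nat_lit 2)],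
  [(nat_lit 2, nat_lit 1), (nat_lit 3, nat_lit 2), (nat_lit 4, nat_lit 2), (nat_lit 5, nat_lit 1), (nat_lit 6, nat_lit 2), (nat_lit 7, nat_lit 2), (nat_lit 8, nat_lit 2)],
  [(nat_lit 0, nat_lit 1), (nat_lit 2, nat_lit 1), (nat_lit 3, nat_lit 1), (nat_lit 4, nat_lit 1), (nat_lit 6, nat_lit 1), (nat_lit 7, nat_lit 1), (nat_lit 9, nat_lit 1), (nat_lit 14, nat_lit 1), (nat_lit 17, nat_lit 2)],
  [(nat_lit 0, nat_lit 2), (nat_lit 3, nat_lit 1), (nat_lit 4, nat_lit 1), (nat_lit 5, nat_lit 1), (nat_lit 6, nat_lit 2), (nat_lit 7, nat_lit 2), (nat_lit 8, nat_lit 1), (nat_lit 11, nat_lit 2), (nat_lit 20, nat_lit 2)],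
  [(nat_lit 3, nat_lit 2), (nat_lit 4, nat_lit 1), (nat_lit 6, nat_lit 1), (nat_lit 7, nat_lit 2), (nat_lit 11, nat_lit 2), (nat_lit 20, nat_lit 1)],
  [(nat_lit 2, nat_lit 1)]]

def rr_comms : List (ℕ × ℕ × ℕ) := [(nat_lit 0xbe502840852a59b3351c4c833ed4ee26115a48d75e911c6b3b77d9d958062c17269e32a96338b0d025ec, nat_lit 0x9038cc5411b7baad8a7af3a6ad3d306b222c66774b13541c85b533a3101f1c53e5620457352a56b42889, nat_lit 0xd323c16848d3a0c867536a977e222dae4b8dd4675099c2b1583b09a407914b7cc55581f06606e5382bcb), (nat_lit 0xcc5552dd17a901b660607c0e0a599c4090ec2b15a4b8db6b21dd463f4ca34e868405f897a94d8c8672ef, nat_lit 0x9a89eeb6caa9ae48e582285f79dd33cb0bf1d77d8920a1471840c26585d551669c6cb34c4d244f390040, nat_lit 0xd857a92aeb0c94305c4a6932cce8a82d6deb819754d0701fa9347585a623404c5718f9db549bed202c0d)]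

def rr_p : ℕ := nat_lit 3
def rr_cw : ℕ := nat_lit 2
def rr_cmask : ℕ := nat_lit 3
def rr_dim : ℕ := nat_lit 14
def rr_WB : ℕ := nat_lit 28

set_option maxRecDepth 1000000 in
theorem rr_omega_ok : Bridge.omegaOK rr_p rr_cw rr_cmask (chevG2.rank + chevG2.nroots) rr_n rr_WB rr_maskB rr_Om = true := by decide +kernel

set_option maxRecDepth 1000000 in
theorem rr_span_ok : Bridge.spanOK rr_p rr_cw rr_cmask (chevG2.rank + chevG2.nroots) rr_n rr_WB rr_maskB rr_Om rr_span = true := by decide +kernel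

set_option maxRecDepth 1000000 in
theorem rr_ents_ok : Core.allL (Bridge.entOK rr_p rr_cw rr_cmask rr_n rr_WB rr_maskB rr_Om rr_w rr_mask rr_idc) rr_ents = true := by decide +kernel

set_option maxRecDepth 1000000 in
theorem rr_tabs_ok : ∀ ent ∈ rr_ents, ent.2.1 = tablesOf chevG2 rr_p ent.1 := by decide +kernel

set_option maxRecDepth 1000000 in
theorem rr_P_ok : Core.checkAll rr_n rr_w rr_mask rr_L rr_maskL rr_idc rr_P_T rr_P_prog rr_P_levels = true := by decide +kernel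

theorem rr_P_order : Core.orderC rr_P_levels = 1512 := by decide +kernel

set_option maxRecDepth 1000000 in
theorem rr_derived_ok : Bridge.derivedOK rr_n rr_w rr_mask rr_L rr_maskL rr_idc rr_P_T rr_G_levels rr_comms = true := by decide +kernel

theorem rr_ents_codes : rr_ents.map (fun ent => ent.2.2) = rr_P_T := by decide +kernel

theorem rr_comms_codes : rr_comms.map (·.1) = rr_G_T := by decide +kernel

end Cfsg.Agent.Lib.Twisted.Ree3Data
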